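import Mathlib

/-!
Groups of automorphisms of odd order of an elementary abelian group of order eight without a
common fixed point: they contain a fixed-point-free element of order seven and are normalised by no
involution.
-/

namespace Cfsg.Agent.Grp.CentralType.AutEight

open Subgroup

open scoped Pointwise

universe u

variable {T : Type u} [Group T] [Finite T]

/-- The fixed points of an automorphism. -/
def fixed (f : MulAut T) : Subgroup T where
  carrier := {a | f a = a}
  one_mem' := map_one f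
  mul_mem' {a b} ha hb := by
    show f (a * b) = a * b
    rw [map_mul, ha, hb]
  inv_mem' {a} ha := by
    show f a⁻¹ = a⁻¹
    rw [map_inv, ha]

theorem zpow_fix {f : MulAut T} {a : T} (h : f a = a) (i : ℤ) : (f ^ i) a = a :=
  show (f ^ i) • a = a from (MulAction.mem_stabilizer_iff (a := a)).1
    (zpow_mem ((MulAction.mem_stabilizer_iff (G := MulAut T) (a := a)).2
      (show f • a = a from h)) i)

theorem card_fixed_modEq {p : ℕ} [Fact p.Prime] {f : MulAut T} (hf : f ^ p = 1) :
    Nat.card T ≡ Nat.card (fixed f) [MOD p] := by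
  haveI : Finite (MulAut T) :=
    Finite.of_injective (fun g : MulAut T => (g : T → T)) DFunLike.coe_injective
  have hP : IsPGroup p (zpowers f) := fun g => ⟨1, by
    obtain ⟨g, hg⟩ := g
    obtain ⟨i, rfl⟩ := mem_zpowers_iff.1 hg
    refine Subtype.ext ?_
    simp only [SubmonoidClass.coe_pow, pow_one, OneMemClass.coe_one]
    rw [← zpow_natCast, zpow_comm, zpow_natCast, hf, one_zpow]⟩
  refine (hP.card_modEq_card_fixedPoints T).trans (Eq.subst ?_ (Nat.ModEq.refl _))
  refine Nat.card_congr (Equiv.subtypeEquivRight fun a => ?_)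
  rw [MulAction.mem_fixedPoints]
  refine ⟨fun h => h ⟨f, mem_zpowers f⟩, fun h g => ?_⟩
  obtain ⟨g, hg⟩ := g
  obtain ⟨i, rfl⟩ := mem_zpowers_iff.1 hg
  exact zpow_fix h i

theorem eq_one_of_fixed_top {f : MulAut T} (h : Nat.card (fixed f) = Nat.card T) : f = 1 :=
  MulEquiv.ext fun a => (eq_top_of_card_eq _ h).ge (mem_top a)

variable (hcard : Nat.card T = 8)

include hcard

theorem card_fixed_cases (f : MulAut T) :
    Nat.card (fixed f) = 1 ∨ Nat.card (fixed f) = 2 ∨ Nat.card (fixed f) = 4 ∨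
      Nat.card (fixed f) = 8 := by
  have h : Nat.card (fixed f) ∣ 2 ^ 3 := by
    simpa [hcard] using card_subgroup_dvd_card (fixed f)
  obtain ⟨j, hj, e⟩ := (Nat.dvd_prime_pow Nat.prime_two).1 h
  interval_cases j <;> simp [e]

theorem eq_one_of_pow_five {f : MulAut T} (hf : f ^ 5 = 1) : f = 1 := by
  haveI : Fact (Nat.Prime 5) := ⟨by norm_num⟩
  have h := card_fixed_modEq hf
  refine eq_one_of_fixed_top ?_
  rw [hcard] at h ⊢
  rcases card_fixed_cases hcard f with e | e | e | e <;> rw [e] at h <;>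
    simp [Nat.ModEq] at h ⊢
  exact e

theorem fpf_of_seven {f : MulAut T} (hf : orderOf f = 7) : fixed f = ⊥ := by
  haveI : Fact (Nat.Prime 7) := ⟨by norm_num⟩
  have h := card_fixed_modEq (hf ▸ pow_orderOf_eq_one f)
  rw [hcard] at h
  rcases card_fixed_cases hcard f with e | e | e | e <;> rw [e] at h <;>
    simp [Nat.ModEq] at h
  · exact card_eq_one.1 e
  · have := eq_one_of_fixed_top (e.trans hcard.symm)
    rw [this, orderOf_one] at hf
    omega

theorem orbit_bijective {f : MulAut T} (hf : orderOf f = 7) {a : T} (ha : a ≠ 1) :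
    Function.Bijective (fun i : Fin 7 => (⟨(f ^ (i : ℕ)) a, fun h => ha
      ((MulEquiv.map_eq_one_iff _).1 h)⟩ : {b : T // b ≠ 1})) := by
  classical
  have hn : Nat.card {b : T // b ≠ 1} = 7 := by
    haveI := Fintype.ofFinite T
    rw [Nat.card_eq_fintype_card, Fintype.card_subtype_compl, Fintype.card_subtype_eq,
      ← Nat.card_eq_fintype_card, hcard]
  haveI := Fintype.ofFinite {b : T // b ≠ 1}
  rw [Fintype.bijective_iff_injective_and_card, ← Nat.card_eq_fintype_card,
    ← Nat.card_eq_fintype_card, hn, Nat.card_fin]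
  refine ⟨fun i j hij => ?_, rfl⟩
  have hij' : (f ^ ((i : ℕ) : ℤ)) a = (f ^ ((j : ℕ) : ℤ)) a := by
    simpa using congrArg Subtype.val hij
  by_contra hne
  set d : ℤ := (j : ℕ) - (i : ℕ) with hd
  have hd0 : (f ^ d) a = a := by
    apply (f ^ ((i : ℕ) : ℤ)).injective
    rw [hij', ← MulAut.mul_apply, ← zpow_add, hd, add_sub_cancel]
  have hcop : IsCoprime d 7 := by
    refine ((Nat.prime_iff_prime_int.1 (show Nat.Prime 7 by norm_num)).coprime_iff_not_dvd.2
      fun h => hne ?_).symm
    obtain ⟨c, hc⟩ := h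
    refine Fin.ext ?_
    have := i.2
    have := j.2
    omega
  obtain ⟨x, y, hxy⟩ := hcop
  have h1 : f a = a := by
    have e : f = (f ^ d) ^ x := by
      conv_lhs => rw [← zpow_one f, ← hxy, zpow_add, mul_comm y, zpow_mul f 7,
        show f ^ (7 : ℤ) = 1 by rw [show (7 : ℤ) = ((7 : ℕ) : ℤ) from rfl, zpow_natCast, ← hf,
          pow_orderOf_eq_one], one_zpow, mul_one, mul_comm x, zpow_mul]
    rw [e]
    exact zpow_fix hd0 x
  have := (fpf_of_seven hcard hf).le (show a ∈ fixed f from h1)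
  exact ha this

/-- The structure of such groups of automorphisms. -/
theorem exists_seven (hexp : ∀ a : T, a * a = 1) (A : Subgroup (MulAut T))
    (hodd : Odd (Nat.card A)) (hfix : ∀ a : T, (∀ f ∈ A, f a = a) → a = 1) :
    (∃ q ∈ A, orderOf q = 7) ∧
      ∀ φ : MulAut T, φ * φ = 1 → (∀ f ∈ A, φ * f * φ ∈ A) → φ = 1 := by
  classical
  haveI : Fintype T := Fintype.ofFinite T
  haveI : Finite (MulAut T) :=
    Finite.of_injective (fun g : MulAut T => (g : T → T)) DFunLike.coe_injective
  let toPerm : MulAut T →* Equiv.Perm T := MulAction.toPermHom (MulAut T) T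
  have hinj : Function.Injective toPerm := fun a b hab => MulEquiv.ext fun x =>
    DFunLike.congr_fun hab x
  have hdvd : Nat.card A ∣ 40320 := by
    refine (card_subgroup_dvd_card A).trans ?_
    have h := card_dvd_of_injective toPerm hinj
    rwa [Nat.card_perm, hcard] at h
  have h7 : 7 ∣ Nat.card A := by
    by_contra h7
    haveI : Fact (Nat.Prime 3) := ⟨by norm_num⟩
    have hpr : ∀ {p : ℕ}, p.Prime → p ∣ Nat.card A → p = 3 := by
      intro p hp hpA
      have h8 : p ∣ 40320 := hpA.trans hdvd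
      have hle : p ≤ 8 := by
        by_contra hlt
        have h' : p ∣ Nat.factorial 8 := by simpa [Nat.factorial] using h8
        exact hlt (hp.dvd_factorial.1 h')
      interval_cases p <;> try (norm_num at hp)
      · exact absurd hpA fun h => by
          obtain ⟨c, hc⟩ := h
          exact Nat.not_even_iff_odd.2 hodd ⟨c, by omega⟩
      · rfl
      · exfalso
        haveI : Fact (Nat.Prime 5) := ⟨by norm_num⟩
        obtain ⟨g, hg⟩ := exists_prime_orderOf_dvd_card' 5 hpA
        have h1 := eq_one_of_pow_five hcard (f := (g : MulAut T)) (by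
          rw [← SubmonoidClass.coe_pow, ← hg, pow_orderOf_eq_one, OneMemClass.coe_one])
        rw [OneMemClass.coe_eq_one] at h1
        rw [h1, orderOf_one] at hg
        omega
      · exact absurd hpA h7
    have hA3 : IsPGroup 3 A := IsPGroup.of_card
      (Nat.eq_prime_pow_of_unique_prime_dvd (Nat.card_pos.ne') @hpr)
    have hmod := hA3.card_modEq_card_fixedPoints T
    have hone : Nat.card (MulAction.fixedPoints A T) = 1 := by
      rw [Nat.card_eq_one_iff_exists]
      refine ⟨⟨1, fun g => map_one (g : MulAut T)⟩, fun a => Subtype.ext ?_⟩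
      exact hfix a fun f hf => a.2 ⟨f, hf⟩
    rw [hcard, hone] at hmod
    simp [Nat.ModEq] at hmod
  haveI : Fact (Nat.Prime 7) := ⟨by norm_num⟩
  obtain ⟨g, hg⟩ := exists_prime_orderOf_dvd_card' 7 h7
  refine ⟨⟨g, g.2, (orderOf_coe g).trans hg⟩, fun φ hφ hφA => ?_⟩
  let c : A ≃* A :=
    { toFun := fun f => ⟨φ * f * φ, hφA f f.2⟩
      invFun := fun f => ⟨φ * f * φ, hφA f f.2⟩
      left_inv := fun f => Subtype.ext (by
        show φ * (φ * f * φ) * φ = f
        rw [show φ * (φ * (f : MulAut T) * φ) * φ = φ * φ * f * (φ * φ) by group, hφ, one_mul,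
          mul_one])
      right_inv := fun f => Subtype.ext (by
        show φ * (φ * f * φ) * φ = f
        rw [show φ * (φ * (f : MulAut T) * φ) * φ = φ * φ * f * (φ * φ) by group, hφ, one_mul,
          mul_one])
      map_mul' := fun a b => Subtype.ext (by
        show φ * (a * b) * φ = φ * a * φ * (φ * b * φ)
        rw [show φ * (a : MulAut T) * φ * (φ * b * φ) = φ * a * (φ * φ) * b * φ by group, hφ]
        group) }
  have hnodd : ¬ 2 ∣ Nat.card (Sylow 7 A) := fun h =>
    Nat.not_even_iff_odd.2 hodd (even_iff_two_dvd.2 (h.trans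
      ((Classical.arbitrary (Sylow 7 A)).card_dvd_index.trans (index_dvd_card _))))
  haveI : Fact (Nat.Prime 2) := ⟨Nat.prime_two⟩
  haveI := Fintype.ofFinite (Sylow 7 A)
  have hcc : c * c = 1 := MulEquiv.ext fun f => c.left_inv f
  obtain ⟨P, hP⟩ := Equiv.Perm.exists_fixed_point_of_prime (p := 2) (n := 1)
    (σ := MulAction.toPermHom (MulAut A) (Sylow 7 A) c)
    (by rwa [← Nat.card_eq_fintype_card])
    (by rw [← map_pow, pow_one, sq, hcc, map_one])
  have hcard7 : Nat.card (P : Subgroup A) = 7 := by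
    obtain ⟨j, hj⟩ := IsPGroup.iff_card.1 P.isPGroup'
    have h1 : 7 ∣ Nat.card (P : Subgroup A) := P.dvd_card_of_dvd_card h7
    rw [hj] at h1 ⊢
    rcases j with _ | _ | j
    · norm_num at h1
    · norm_num
    · exfalso
      have h2 : 7 ^ 2 ∣ 40320 := (pow_dvd_pow 7 (by omega : 2 ≤ j + 2)).trans
        (hj ▸ (card_subgroup_dvd_card (P : Subgroup A)).trans hdvd)
      norm_num at h2
  haveI : IsCyclic (P : Subgroup A) := isCyclic_of_prime_card hcard7
  obtain ⟨q₁, hq₁⟩ := (Subgroup.isCyclic_iff_exists_zpowers_eq_top (P : Subgroup A)).1 inferInstance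
  set q : MulAut T := (q₁ : MulAut T) with hqdef
  have hq : orderOf q = 7 := by rw [hqdef, orderOf_coe, ← Nat.card_zpowers, hq₁, hcard7]
  have hmem : c q₁ ∈ zpowers q₁ := by
    rw [hq₁]
    have h1 : c q₁ ∈ ((c • P : Sylow 7 A) : Subgroup A) := by
      show c q₁ ∈ (c : MulAut A) • (P : Subgroup A)
      exact smul_mem_pointwise_smul q₁ c _ (hq₁ ▸ mem_zpowers q₁)
    rwa [show c • P = P from hP] at h1
  obtain ⟨j, hj⟩ := mem_zpowers_iff.1 hmem
  have hjq : φ * q * φ = q ^ j := by
    have := congrArg Subtype.val hj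
    rw [SubgroupClass.coe_zpow] at this
    exact this.symm
  have hconj : ∀ n : ℤ, φ * q ^ n * φ = (φ * q * φ) ^ n := fun n => by
    have e : φ⁻¹ = φ := inv_eq_of_mul_eq_one_right hφ
    conv_rhs => rw [show φ * q * φ = φ * q * φ⁻¹ by rw [e], conj_zpow, e]
  have hjj : q ^ (j * j) = q := by
    rw [zpow_mul, ← hjq, ← hconj, ← hjq,
      show φ * (φ * q * φ) * φ = φ * φ * q * (φ * φ) by group, hφ, one_mul, mul_one]
  have hj7 : (7 : ℤ) ∣ j * j - 1 := by
    have : q ^ (j * j - 1) = 1 := by rw [zpow_sub_one, hjj, mul_inv_cancel]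
    have h2 := orderOf_dvd_iff_zpow_eq_one.2 this
    rw [hq] at h2
    exact h2
  have hq7 : q ^ (7 : ℤ) = 1 := by
    rw [show (7 : ℤ) = ((7 : ℕ) : ℤ) from rfl, zpow_natCast, ← hq, pow_orderOf_eq_one]
  obtain ⟨f₀, hf₀, hf₀1⟩ : ∃ f₀ : T, φ f₀ = f₀ ∧ f₀ ≠ 1 := by
    have h := card_fixed_modEq (p := 2) (f := φ) (by rw [sq, hφ])
    rw [hcard] at h
    obtain ⟨b, hb, hb1⟩ := (fixed φ).bot_or_exists_ne_one.resolve_left fun e => by
      rw [e, card_bot] at h
      simp [Nat.ModEq] at h
    exact ⟨b, hb, hb1⟩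
  have hsurj : ∀ b : T, b ≠ 1 → ∃ i : Fin 7, (q ^ (i : ℕ)) f₀ = b := fun b hb =>
    ((orbit_bijective hcard hq hf₀1).2 ⟨b, hb⟩).imp fun i hi => congrArg Subtype.val hi
  have hne : ∀ i : Fin 7, i ≠ 0 → (q ^ (i : ℕ)) f₀ ≠ f₀ := fun i hi h => hi
    ((orbit_bijective hcard hq hf₀1).1 (Subtype.ext (by simpa using h)))
  rcases (Nat.prime_iff_prime_int.1 (show Nat.Prime 7 by norm_num)).dvd_or_dvd
    (show (7 : ℤ) ∣ (j - 1) * (j + 1) by rwa [show (j - 1) * (j + 1) = j * j - 1 by ring]) with
    ⟨k, hk⟩ | ⟨k, hk⟩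
  · -- `φ` commutes with `q`
    have hcom : Commute φ q := by
      have h1 : φ * q * φ = q := by
        rw [hjq, show j = 7 * k + 1 by omega, zpow_add, zpow_mul, hq7, one_zpow, one_mul, zpow_one]
      calc φ * q = φ * q * (φ * φ) := by rw [hφ, mul_one]
        _ = q * φ := by rw [← mul_assoc, h1]
    refine MulEquiv.ext fun b => ?_
    rw [MulAut.one_apply]
    by_cases hb : b = 1
    · rw [hb, map_one]
    · obtain ⟨i, rfl⟩ := hsurj b hb
      rw [← MulAut.mul_apply, (hcom.pow_right i).eq, MulAut.mul_apply, hf₀]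
  · -- `φ` inverts `q`
    exfalso
    have hinv : φ * q * φ = q⁻¹ := by
      rw [hjq, show j = 7 * k + (-1) by omega, zpow_add, zpow_mul, hq7, one_zpow, one_mul,
        zpow_neg_one]
    have hφn : ∀ n : ℤ, φ ((q ^ n) f₀) = (q ^ (-n)) f₀ := fun n => by
      conv_lhs => rw [← hf₀]
      rw [← MulAut.mul_apply, ← MulAut.mul_apply, hconj, hinv, inv_zpow']
    have hcomm : ∀ a b : T, a * b = b * a := fun a b => by
      have h1 : (a * b)⁻¹ = a * b := inv_eq_of_mul_eq_one_right (hexp _)
      rw [mul_inv_rev, inv_eq_of_mul_eq_one_right (hexp a),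
        inv_eq_of_mul_eq_one_right (hexp b)] at h1
      exact h1.symm
    have hab : f₀ * q f₀ ≠ 1 := fun h => by
      have h' : q f₀ = f₀ := mul_left_cancel (h.trans (hexp f₀).symm)
      exact hne 1 (by decide) (by simpa using h')
    obtain ⟨i, hi⟩ := hsurj _ hab
    have h1 := congrArg φ hi
    rw [map_mul, hf₀, ← zpow_natCast, hφn, show q = q ^ (1 : ℤ) from (zpow_one q).symm] at h1
    rw [hφn, zpow_one] at h1
    have h2 := congrArg q h1
    rw [map_mul, ← MulAut.mul_apply, ← MulAut.mul_apply, ← zpow_one_add, ← zpow_one_add,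
      show (1 : ℤ) + -1 = 0 from rfl, zpow_zero, MulAut.one_apply, hcomm (q f₀), ← hi] at h2
    have hi4 : (i : ℕ) = 4 := by
      have e : (q ^ (((i : ℕ) : ℤ) + ((i : ℕ) : ℤ) - 1)) f₀ = f₀ := by
        have := congrArg (q ^ (((i : ℕ) : ℤ) - 1) : MulAut T) h2
        rw [← zpow_natCast, ← MulAut.mul_apply, ← MulAut.mul_apply, ← zpow_add, ← zpow_add,
          show ((i : ℕ) : ℤ) - 1 + (1 + -((i : ℕ) : ℤ)) = 0 by ring, zpow_zero,
          MulAut.one_apply] at this
        rw [show ((i : ℕ) : ℤ) + ((i : ℕ) : ℤ) - 1 = ((i : ℕ) : ℤ) - 1 + ((i : ℕ) : ℤ) by ring]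
        exact this.symm
      set m : ℤ := ((i : ℕ) : ℤ) + ((i : ℕ) : ℤ) - 1 with hm
      have hm7 : (7 : ℤ) ∣ m := by
        by_contra hnd
        have hlt : (m % 7).toNat < 7 := by omega
        refine hne ⟨(m % 7).toNat, hlt⟩ (fun h => hnd ?_) ?_
        · have := congrArg Fin.val h
          simp only [Fin.val_zero] at this
          omega
        · show (q ^ (m % 7).toNat) f₀ = f₀
          rw [← zpow_natCast, Int.toNat_of_nonneg (Int.emod_nonneg m (by norm_num)),
            show m % 7 = m - 7 * (m / 7) by rw [Int.emod_def], zpow_sub, zpow_mul, hq7, one_zpow,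
            inv_one, mul_one, e]
      have := i.2
      obtain ⟨r, hr⟩ := hm7
      omega
    rw [hi4] at hi
    have h3 := congrArg (q ^ (4 : ℕ) : MulAut T) hi
    rw [← MulAut.mul_apply, ← pow_add, map_mul, hi, ← MulAut.mul_apply, ← pow_succ,
      show q ^ (4 + 4) = q by
        rw [show 4 + 4 = 7 + 1 from rfl, pow_succ, ← hq, pow_orderOf_eq_one, one_mul]] at h3
    have h4 : (q ^ 5) f₀ = f₀ := by
      refine mul_left_cancel (a := f₀ * q f₀) (h3.symm.trans ?_)
      rw [hcomm _ f₀, ← mul_assoc, hexp, one_mul]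
    exact hne 5 (by decide) (by simpa using h4)

end Cfsg.Agent.Grp.CentralType.AutEight
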