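import Cfsg.Agent.Lib.Grp.CentralType.Good
import Cfsg.Agent.Lib.Transfer.CyclicSylow
import Cfsg.Agent.Lib.Classical.SLTwoSylow
import Cfsg.Agent.Lib.Invol.AbelTwo.EightSylow
import Cfsg.Agent.Lib.Invol.GW.Consumers.Dihedral

/-!
A simple subgroup normalised by the centralizers of its elements cannot have a cyclic Sylow
subgroup when it lies in a fully ramified quotient: in particular it is neither `L2(q)` nor `A7`.
-/

namespace Cfsg.Agent.Grp.CentralType

open Cfsg Cfsg.Agent.Char Cfsg.Agent.Char.RamCompl Subgroup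

set_option linter.unusedSectionVars false
set_option linter.style.haveILetI false

universe u

theorem perfect_of_simple {S : Type u} [Group S] [IsSimpleGroup S] (hna : ¬ IsMulCommutative S) :
    commutator S = ⊤ :=
  (inferInstance : (commutator S).Normal).eq_bot_or_eq_top.resolve_left fun h => hna ⟨⟨fun a b =>
    commutatorElement_eq_one_iff_mul_comm.1
      (mem_bot.1 (h ▸ commutator_mem_commutator (mem_top a) (mem_top b)))⟩⟩

/-- A prime other than two and the characteristic, dividing `q² - 1`. -/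
theorem exists_prime_psl (q : ℕ) (hq : 4 ≤ q) :
    ∃ r : ℕ, r.Prime ∧ r ≠ 2 ∧ ¬ r ∣ q ∧ r ∣ q * ((q - 1) * (q + 1)) := by
  obtain ⟨m, hm, hmd, hmodd⟩ : ∃ m, 1 < m ∧ m ∣ (q - 1) * (q + 1) ∧ Odd m := by
    rcases Nat.even_or_odd q with ⟨k, hk⟩ | ⟨k, hk⟩
    · exact ⟨q + 1, by omega, dvd_mul_left _ _, ⟨k, by omega⟩⟩
    · rcases Nat.even_or_odd k with ⟨j, hj⟩ | ⟨j, hj⟩
      · exact ⟨k + 1, by omega, dvd_mul_of_dvd_right ⟨2, by omega⟩ _, ⟨j, by omega⟩⟩
      · exact ⟨k, by omega, dvd_mul_of_dvd_left ⟨2, by omega⟩ _, ⟨j, by omega⟩⟩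
  obtain ⟨r, hr, hrm⟩ := Nat.exists_prime_and_dvd hm.ne'
  refine ⟨r, hr, ?_, fun hrq => ?_, dvd_mul_of_dvd_right (hrm.trans hmd) _⟩
  · rintro rfl
    exact Nat.not_even_iff_odd.2 hmodd (even_iff_two_dvd.2 hrm)
  · rcases hr.dvd_mul.1 (hrm.trans hmd) with h | h
    · have := Nat.dvd_sub hrq h
      rw [show q - (q - 1) = 1 by omega] at this
      exact hr.ne_one (Nat.dvd_one.1 this)
    · have := Nat.dvd_sub h hrq
      rw [show q + 1 - q = 1 by omega] at this
      exact hr.ne_one (Nat.dvd_one.1 this)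

variable {H : Type u} [Group H] [Fintype H] {Z : Subgroup H} [Z.Normal] [Fintype Z]
  {χ : H → ℂ} {θ : Z → ℂ} {e : ℕ}

/-- The hypothesis on the simple subgroup. -/
def NormalisedByCents (S : Subgroup (H ⧸ Z)) : Prop :=
  ∀ y x : H ⧸ Z, x ∈ S → x ≠ 1 → Commute y x → ∀ s ∈ S, y * s * y⁻¹ ∈ S

variable {S : Subgroup (H ⧸ Z)}

theorem false_of_cyclic_sylow (d : Data Z χ θ e) (hperf : commutator ↥S = ⊤)
    (hN : NormalisedByCents S) {r : ℕ} [Fact r.Prime] (hrd : r ∣ Nat.card S) (R : Sylow r S)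
    (hR : IsCyclic (R : Subgroup S)) : False := by
  haveI := hR
  have hr : r.Prime := Fact.out
  obtain ⟨g, hg, hgC⟩ := SetLike.not_le_iff_exists.1
    (Transfer.CyclicSyl.exists_normalizer_not_centralizer hperf hrd R)
  obtain ⟨x, hx⟩ := exists_prime_orderOf_dvd_card' r (R.dvd_card_of_dvd_card hrd)
  have hx1 : (x : S) ≠ 1 := fun h => by
    rw [OneMemClass.coe_eq_one] at h
    rw [h, orderOf_one] at hx
    exact hr.ne_one hx.symm
  obtain ⟨k, hk⟩ : ∃ k : ℕ, g * (x : S) * g⁻¹ = (x : S) ^ k := by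
    have hmem : g * (x : S) * g⁻¹ ∈ (R : Subgroup S) := (mem_normalizer_iff.1 hg _).1 x.2
    set x' : (R : Subgroup S) := ⟨_, hmem⟩ with hx'
    have hox : orderOf x' = r := by
      rw [← orderOf_coe, hx', show ((⟨_, hmem⟩ : (R : Subgroup S)) : S) = MulAut.conj g (x : S) from
        rfl, MulEquiv.orderOf_eq, orderOf_coe, hx]
    obtain ⟨a, ha⟩ := IsCyclic.exists_generator (α := (R : Subgroup S))
    have hin : ∀ y : (R : Subgroup S), orderOf y = r →
        y ∈ zpowers (a ^ (orderOf a / r)) := by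
      intro y hy
      obtain ⟨i, hi⟩ := mem_zpowers_iff.1 (ha y)
      have h1 : a ^ (i * r) = 1 := by
        rw [zpow_mul, hi, zpow_natCast]
        exact orderOf_dvd_iff_pow_eq_one.1 (dvd_of_eq hy)
      rw [← orderOf_dvd_iff_zpow_eq_one] at h1
      have hro : r ∣ orderOf a := hy.symm.dvd.trans (orderOf_dvd_of_mem_zpowers (ha y))
      obtain ⟨t, ht⟩ := hro
      obtain ⟨c, hc⟩ := h1
      refine mem_zpowers_iff.2 ⟨c, ?_⟩
      rw [← hi, ← zpow_natCast, ← zpow_mul, ht, Nat.mul_div_cancel_left _ hr.pos]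
      congr 1
      rw [ht] at hc
      push_cast at hc
      exact mul_right_cancel₀ (b := (r : ℤ)) (by exact_mod_cast hr.ne_zero) (by linarith)
    have hz : zpowers x = zpowers (a ^ (orderOf a / r)) := by
      refine eq_of_le_of_card_ge (zpowers_le.2 (hin x hx)) ?_
      rw [Nat.card_zpowers, Nat.card_zpowers, hx]
      refine Nat.le_of_dvd hr.pos (orderOf_dvd_of_pow_eq_one ?_)
      rw [← pow_mul, Nat.div_mul_cancel (hx.symm.dvd.trans (orderOf_dvd_of_mem_zpowers (ha x))),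
        pow_orderOf_eq_one]
    have hmem2 : x' ∈ zpowers x := hz ▸ hin x' hox
    obtain ⟨k, -, hk⟩ := mem_powers_iff_mem_zpowers.2 hmem2 |>.imp fun k h => (⟨trivial, h⟩ : True ∧ _)
    exact ⟨k, by simpa [hx'] using congrArg Subtype.val hk.symm⟩
  have hne : (x : S) ^ k ≠ x := fun h => hgC (Transfer.CyclicSyl.mem_centralizer_of_normalizer R hg
    (Or.inl ⟨x, x.2, hx1, by
      rw [← mul_inv_eq_iff_eq_mul, hk, h]⟩))
  refine no_twist d hr (x := (((x : S) : H ⧸ Z))) (g := ((g : S) : H ⧸ Z)) (k := k)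
    (by rw [orderOf_coe, orderOf_coe, hx]) (by simpa using congrArg Subtype.val hk)
    (fun h => hne (Subtype.ext (by simpa using h))) S (fun y hy => ?_) fun c hcS hcx j hj => ?_
  · refine S.mul_mem ?_ g.2
    have := hN y⁻¹ _ (x : S).2 (fun h => hx1 (Subtype.ext h)) hy.inv_left _ (S.inv_mem g.2)
    simpa using this
  · set c' : S := ⟨c, hcS⟩
    have hcx' : Commute c' (x : S) := Subtype.ext hcx
    have hp1 : IsPGroup r (zpowers c') := IsPGroup.of_card (n := j) (by
      rw [Nat.card_zpowers, ← orderOf_coe]; exact hj)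
    have hp2 : IsPGroup r (zpowers (x : S)) := IsPGroup.of_card (n := 1) (by
      rw [Nat.card_zpowers, orderOf_coe, hx, pow_one])
    obtain ⟨Q, hQ⟩ := (hp1.to_sup_of_normal_right' hp2 (zpowers_le.2
      (centralizer_le_normalizer _ (mem_centralizer_iff.2 fun b hb => by
        obtain ⟨i, rfl⟩ := mem_zpowers_iff.1 hb
        exact (hcx'.zpow_right i).eq.symm)))).exists_le_sylow
    haveI : IsCyclic (Q : Subgroup S) := isCyclic_of_surjective (Sylow.equiv R Q).toMonoidHom
      (MulEquiv.surjective _)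
    refine ⟨(Q : Subgroup S).map S.subtype, ?_, ⟨x, hQ (mem_sup_right (mem_zpowers _)), rfl⟩,
      ⟨c', hQ (mem_sup_left (mem_zpowers _)), rfl⟩⟩
    exact isCyclic_of_surjective ((Q : Subgroup S).equivMapOfInjective S.subtype
      S.subtype_injective).toMonoidHom (MulEquiv.surjective _)

theorem false_of_psl (d : Data Z χ θ e) (hperf : commutator ↥S = ⊤) (hN : NormalisedByCents S)
    {F : Type} [Field F] [Fintype F] (hF : 4 ≤ Fintype.card F)
    (iso : ↥S ≃* Matrix.ProjectiveSpecialLinearGroup (Fin 2) F) : False := by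
  classical
  obtain ⟨r, hr, hr2, hrq, hrd⟩ := exists_prime_psl (Fintype.card F) hF
  haveI : Fact r.Prime := ⟨hr⟩
  have hrS : r ∣ Nat.card S := by
    rw [Nat.card_congr iso.toEquiv]
    have h := Classical.natCard_PSL_mul (F := F) 2 (by norm_num)
    rw [Fus.PSLTwo.natCard_SL_two] at h
    rw [← h] at hrd
    refine (hr.dvd_mul.1 hrd).resolve_left fun h1 => hr2 ?_
    exact (Nat.prime_dvd_prime_iff_eq hr Nat.prime_two).1 (h1.trans (Nat.gcd_dvd_left _ _))
  obtain ⟨R0⟩ := Sylow.nonempty (p := r) (G := Matrix.SpecialLinearGroup (Fin 2) F)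
  haveI := Classical.SLTwoSylow.isCyclic_sylow_SL hr2 hrq R0
  let π : Matrix.SpecialLinearGroup (Fin 2) F →* ↥S :=
    iso.symm.toMonoidHom.comp (QuotientGroup.mk' _)
  have hπ : Function.Surjective π := iso.symm.surjective.comp (QuotientGroup.mk'_surjective _)
  refine false_of_cyclic_sylow d hperf hN hrS (R0.mapSurjective hπ) ?_
  rw [Sylow.coe_mapSurjective]
  exact isCyclic_of_surjective (π.subgroupMap (R0 : Subgroup _)) (π.subgroupMap_surjective _)

theorem false_of_alt_seven (d : Data Z χ θ e) (hperf : commutator ↥S = ⊤) (hN : NormalisedByCents S)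
    (iso : ↥S ≃* alternatingGroup (Fin 7)) : False := by
  haveI : Fact (Nat.Prime 5) := ⟨by norm_num⟩
  have hc : Nat.card S = 2520 := by
    rw [Nat.card_congr iso.toEquiv, nat_card_alternatingGroup, Nat.card_fin]
    rfl
  obtain ⟨R⟩ := Sylow.nonempty (p := 5) (G := S)
  refine false_of_cyclic_sylow d hperf hN (r := 5) (by rw [hc]; norm_num) R
    (isCyclic_of_prime_card (p := 5) ?_)
  obtain ⟨j, hj⟩ := IsPGroup.iff_card.1 R.isPGroup'
  have h1 : 5 ∣ Nat.card (R : Subgroup S) := R.dvd_card_of_dvd_card (by rw [hc]; norm_num)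
  have h2 : 5 ^ j ∣ 2520 := hc ▸ hj ▸ card_subgroup_dvd_card _
  rw [hj] at h1 ⊢
  rcases j with _ | _ | j
  · norm_num at h1
  · norm_num
  · exact absurd ((pow_dvd_pow 5 (by omega : 2 ≤ j + 2)).trans h2) (by norm_num)

end Cfsg.Agent.Grp.CentralType
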