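import Cfsg.Agent.Lib.Char.RamifiedComplement
import Cfsg.Agent.Lib.Char.InvariantCover

/-!
Extensions of the character below a fully ramified character to subgroups with cyclic quotient:
none of them is fixed, on a nontrivial coset, by the whole centralizer of that coset.
-/

open scoped ComplexConjugate

namespace Cfsg.Agent.Grp.CentralType

open Cfsg Cfsg.Agent.Char Cfsg.Agent.Char.RamCompl Cfsg.Agent.Char.InvCover

set_option linter.unusedSectionVars false
set_option linter.style.haveILetI false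

universe u

/-- Functions that are orthogonal below average to zero over the cosets. -/
theorem avg_eq_zero {A : Type u} [Group A] [Fintype A] (N : Subgroup A) [N.Normal] [Fintype N]
    {φ ψ : A → ℂ} (hφ : IsCharacter A φ) (hψ : IsCharacter A ψ)
    (h : classInner (fun n : N => ψ n) (fun n : N => φ n) = 0) (g : A) :
    ∑ n : N, ψ ((n : A) * g) * conj (φ ((n : A) * g)) = 0 := by
  have hc : IsCharacter A (avgN N (ψ * fun x => conj (φ x))) :=
    IsChar.avgN N (IsChar.mul hψ (IsChar.conj hφ))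
  have h0 : avgN N (ψ * fun x => conj (φ x)) = 0 := IsChar.eq_zero_of_one_eq_zero hc (by
    rw [avgN_one_eq]
    simpa [classInner] using h)
  have h1 := congrFun h0 g
  simp only [avgN, Pi.mul_apply, Pi.zero_apply] at h1
  exact (mul_eq_zero.1 h1).resolve_left (inv_ne_zero (Nat.cast_ne_zero.2 Nat.card_pos.ne'))

variable {H : Type u} [Group H] [Fintype H]

/-- An extension of `θ` to `M`, as a function on the whole group; only its values on `M` matter. -/
def IsExt {Z : Subgroup H} (θ : Z → ℂ) (M : Subgroup H) (F : H → ℂ) : Prop :=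
  IsIrrCharacter M (fun x : M => F x) ∧ ∀ z : Z, F z = θ z

variable {Z : Subgroup H} [Z.Normal] [Fintype Z] {χ : H → ℂ} {θ : Z → ℂ} {e : ℕ}

theorem vanish (d : Data Z χ θ e) {g : H} (hg : g ∉ Z) : χ g = 0 := by
  classical
  have h1 : ∑ z : Z, θ z * conj (θ z) = (Nat.card Z : ℂ) := by
    have h := classInner_self_irr d.hθ
    rw [classInner] at h
    exact ((inv_mul_eq_one₀ (Nat.cast_ne_zero.2 Nat.card_pos.ne')).1 h).symm
  have h2 : ∑ z : Z, χ z * conj (χ z) = (Nat.card H : ℂ) := by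
    rw [Finset.sum_congr rfl fun (z : Z) _ => (show χ z * conj (χ z) =
      (e : ℂ) ^ 2 * (θ z * conj (θ z)) by
        rw [d.hres, map_mul, Complex.conj_natCast]; ring), ← Finset.mul_sum, h1]
    rw [← Z.card_mul_index, ← d.he]
    push_cast
    ring
  have hsum : ∑ g : H, χ g * conj (χ g) = (Nat.card H : ℂ) := by
    have h := classInner_self_irr d.hχ
    rw [classInner] at h
    exact ((inv_mul_eq_one₀ (Nat.cast_ne_zero.2 Nat.card_pos.ne')).1 h).symm
  have hR : ∀ x : H, χ x * conj (χ x) = ((‖χ x‖ ^ 2 : ℝ) : ℂ) := fun x => by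
    rw [Complex.mul_conj, Complex.normSq_eq_norm_sq]
  simp only [hR] at hsum h2
  rw [← Complex.ofReal_sum] at hsum h2
  have h3 := Finset.sum_add_sum_compl (Finset.univ.filter fun x : H => x ∈ Z)
    (fun x : H => ‖χ x‖ ^ 2)
  have e1 : ∑ x ∈ Finset.univ.filter (fun x : H => x ∈ Z), ‖χ x‖ ^ 2 =
      ∑ z : Z, ‖χ z‖ ^ 2 := Finset.sum_subtype _ (by simp) _
  have e2 : ∑ x : H, ‖χ x‖ ^ 2 = ∑ z : Z, ‖χ z‖ ^ 2 :=
    Complex.ofReal_injective (hsum.trans h2.symm)
  rw [e1, e2, add_eq_left] at h3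
  have h4 := (Finset.sum_eq_zero_iff_of_nonneg fun x _ => by positivity).1 h3 g (by simp [hg])
  simpa using h4

/-- The restriction of `θ` to the copy of `Z` inside `M`. -/
theorem IsExt.res_eq {M : Subgroup H} {F : H → ℂ} (hF : IsExt θ M F) :
    (fun n : Z.subgroupOf M => F ((n : M) : H)) =
      fun n : Z.subgroupOf M => θ ⟨((n : M) : H), n.2⟩ :=
  funext fun n => hF.2 ⟨((n : M) : H), n.2⟩

theorem IsExt.res_irr (d : Data Z χ θ e) {M : Subgroup H} {F : H → ℂ} (hZM : Z ≤ M)
    (hF : IsExt θ M F) : IsIrrCharacter (Z.subgroupOf M) (fun n : Z.subgroupOf M => F ((n : M) : H)) := by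
  rw [hF.res_eq]
  exact IsIrr.comp_mulEquiv (Subgroup.subgroupOfEquivOfLe hZM) d.hθ

open scoped Classical in
theorem IsExt.norm_coset (d : Data Z χ θ e) {M : Subgroup H} {F : H → ℂ} (hZM : Z ≤ M)
    (hF : IsExt θ M F) {h : H} (hh : h ∈ M) : ∃ z : Z, F ((z : H) * h) ≠ 0 := by
  letI : Fintype M := Fintype.ofFinite _
  letI : Fintype (Z.subgroupOf M) := Fintype.ofFinite _
  haveI : (Z.subgroupOf M).Normal := Subgroup.Normal.subgroupOf inferInstance _
  have h1 := congrFun (avgN_absSq (Z.subgroupOf M) (θ := fun x : M => F x) hF.1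
    (hF.res_irr d hZM)) ⟨h, hh⟩
  by_contra hall
  push Not at hall
  simp only [avgN, Pi.mul_apply] at h1
  rw [Finset.sum_eq_zero fun n _ => ?_, mul_zero] at h1
  · exact zero_ne_one h1
  · have := hall ⟨((n : M) : H), n.2⟩
    simp only [Subgroup.coe_mul]
    rw [this, zero_mul]

open scoped Classical in
/-- The key fact: no extension is fixed on a coset by the centralizer of the coset. -/
theorem no_fixed (d : Data Z χ θ e) {M : Subgroup H} (hZM : Z ≤ M) {h : H} (hh : h ∈ M)
    (hhZ : h ∉ Z) {F : H → ℂ} (hF : IsExt θ M F)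
    (hC : ∀ u : H, u * h * u⁻¹ * h⁻¹ ∈ Z → ∀ x ∈ M, F (u * x * u⁻¹) = F x) : False := by
  letI : Fintype M := Fintype.ofFinite _
  letI : Fintype (Z.subgroupOf M) := Fintype.ofFinite _
  haveI : (Z.subgroupOf M).Normal := Subgroup.Normal.subgroupOf inferInstance _
  set ξ : H → ℂ := fun x => if x * h⁻¹ ∈ Z then F x else 0 with hξ
  set Φ : H → ℂ := fun g => ∑ u : H, ξ (u * g * u⁻¹) with hΦ
  have hcls : IsClassFunction H Φ := by
    intro g k
    refine Fintype.sum_equiv (Equiv.mulRight k) _ _ fun u => ?_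
    simp [mul_assoc]
  have hzero : Φ = 0 := by
    refine eq_zero_of_orth_irr hcls fun ω hω => ?_
    have hin : ∑ g : H, Φ g * conj (ω g) =
        (Nat.card H : ℂ) * ∑ z : Z, F ((z : H) * h) * conj (ω ((z : H) * h)) := by
      simp only [hΦ, Finset.sum_mul]
      rw [Finset.sum_comm]
      rw [Finset.sum_congr rfl (g := fun _ => ∑ z : Z, F ((z : H) * h) * conj (ω ((z : H) * h)))
        fun u _ => ?_]
      · rw [Finset.sum_const, nsmul_eq_mul, Finset.card_univ, Nat.card_eq_fintype_card]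
      have e1 : ∑ g : H, ξ (u * g * u⁻¹) * conj (ω g) = ∑ g : H, ξ g * conj (ω g) :=
        Fintype.sum_equiv (MulAut.conj u).toEquiv _ _ fun g => by
          simp only [MulEquiv.toEquiv_eq_coe, EquivLike.coe_coe, MulAut.conj_apply]
          rw [IsIrr.classFun hω g u]
      rw [e1]
      refine (Fintype.sum_of_injective (fun z : Z => (z : H) * h)
        (fun a b hab => Subtype.ext (mul_right_cancel hab)) _ _ (fun g hg => ?_) fun z => ?_).symm
      · have : ¬ g * h⁻¹ ∈ Z := fun hm => hg ⟨⟨_, hm⟩, by simp⟩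
        simp [hξ, this]
      · simp [hξ]
    rw [classInner, hin]
    have : ∑ z : Z, F ((z : H) * h) * conj (ω ((z : H) * h)) = 0 := by
      by_cases hov : classInner (fun z : Z => ω z) θ = 0
      · have h0 : classInner (fun n : Z.subgroupOf M => ω ((n : M) : H))
            (fun n : Z.subgroupOf M => F ((n : M) : H)) = 0 := by
          rw [hF.res_eq]
          rw [← hov, ← Corr.classInner_subgroupOf Z hZM (fun z : Z => ω z) θ]
        have h1 := avg_eq_zero (Z.subgroupOf M) (IsIrr.isCharacter hF.1)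
          (IsChar.res (IsIrr.isCharacter hω) M) h0 ⟨h, hh⟩
        have h2 := congrArg conj h1
        simp only [map_sum, map_mul, Complex.conj_conj, map_zero, Subgroup.coe_mul] at h2
        rw [← h2]
        refine (Fintype.sum_equiv (Subgroup.subgroupOfEquivOfLe hZM).toEquiv _ _ fun n => ?_).symm
        simp only [MulEquiv.toEquiv_eq_coe, EquivLike.coe_coe, Subgroup.subgroupOfEquivOfLe_apply_coe]
        ring
      · obtain rfl := d.eq_of_over hω hov
        refine Finset.sum_eq_zero fun z _ => ?_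
        rw [vanish d fun hm => hhZ (by simpa using Z.mul_mem (Z.inv_mem z.2) hm), map_zero, mul_zero]
    rw [this, mul_zero, mul_zero]
  obtain ⟨z0, hz0⟩ := hF.norm_coset d hZM hh
  have hval := congrFun hzero ((z0 : H) * h)
  have hterm : ∀ u : H, ξ (u * ((z0 : H) * h) * u⁻¹) =
      if u * h * u⁻¹ * h⁻¹ ∈ Z then F ((z0 : H) * h) else 0 := by
    intro u
    have hconj : u * (z0 : H) * u⁻¹ ∈ Z := Subgroup.Normal.conj_mem inferInstance _ z0.2 u
    have e2 : u * ((z0 : H) * h) * u⁻¹ * h⁻¹ = (u * (z0 : H) * u⁻¹) * (u * h * u⁻¹ * h⁻¹) := by group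
    simp only [hξ]
    rw [e2]
    by_cases hu : u * h * u⁻¹ * h⁻¹ ∈ Z
    · rw [if_pos (Z.mul_mem hconj hu), if_pos hu, hC u hu _ (M.mul_mem (hZM z0.2) hh)]
    · rw [if_neg (fun hm => hu ((Z.mul_mem_cancel_left hconj).1 hm)), if_neg hu]
  simp only [hΦ, hterm, Pi.zero_apply, Finset.sum_ite, Finset.sum_const_zero, add_zero,
    Finset.sum_const, nsmul_eq_mul, mul_eq_zero, Nat.cast_eq_zero] at hval
  rcases hval with hcard | h0
  · have : (1 : H) ∈ Finset.univ.filter fun u : H => u * h * u⁻¹ * h⁻¹ ∈ Z := by simp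
    rw [Finset.card_eq_zero.1 hcard] at this
    simp at this
  · exact hz0 h0

/-- A character of `M` extending `θ` is irreducible. -/
theorem isExt_of_char (d : Data Z χ θ e) {M : Subgroup H} (hZM : Z ≤ M) {F : H → ℂ}
    (hch : IsCharacter M (fun x : M => F x)) (hres : ∀ z : Z, F z = θ z) : IsExt θ M F := by
  classical
  letI : Fintype M := Fintype.ofFinite _
  letI : Fintype (Z.subgroupOf M) := Fintype.ofFinite _
  haveI : (Z.subgroupOf M).Normal := Subgroup.Normal.subgroupOf inferInstance _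
  set θM : Z.subgroupOf M → ℂ := fun n => θ ⟨((n : M) : H), n.2⟩ with hθM
  have hθMi : IsIrrCharacter (Z.subgroupOf M) θM :=
    IsIrr.comp_mulEquiv (Subgroup.subgroupOfEquivOfLe hZM) d.hθ
  have hinv : inertia (Z.subgroupOf M) θM = ⊤ := eq_top_iff.2 fun t _ => by
    rw [mem_inertia]
    funext n
    exact congrFun (d.conj_eq (t : H)) ⟨((n : M) : H), n.2⟩
  have hF1 : F (((1 : M) : H)) = θM 1 := by
    show F (((1 : M) : H)) = θ ⟨((((1 : Z.subgroupOf M) : M)) : H), _⟩
    rw [← hres]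
    rfl
  obtain ⟨ψ, hψ⟩ := IsChar.exists_constituent' hch (by
    show F (((1 : M) : H)) ≠ 0
    rw [hF1]; exact IsIrr.one_ne_zero hθMi)
  obtain ⟨θ', hθ'⟩ := IsChar.exists_constituent'
    (IsChar.res (IsIrr.isCharacter ψ.2) (Z.subgroupOf M))
    (show (ψ : M → ℂ) ((1 : Z.subgroupOf M) : M) ≠ 0 from IsIrr.one_ne_zero ψ.2)
  have h1 := pos_of_constituent (Z.subgroupOf M).subtype hch ψ.2 hψ θ'.2 hθ'
  have e1 : (fun n : Z.subgroupOf M => F ((n : M) : H)) = θM := funext fun n => hres ⟨_, n.2⟩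
  change classInner (fun n : Z.subgroupOf M => F ((n : M) : H)) _ ≠ 0 at h1
  rw [e1] at h1
  have hθ'e : θM = θ' := eq_of_constituent_irr hθMi θ'.2 h1
  obtain ⟨a, ha, had, -⟩ := over_data (Z.subgroupOf M) hθMi hinv
  have ha0 : a ψ ≠ 0 := fun h0 => by
    have := ha ψ
    rw [h0, Nat.cast_zero, hθ'e] at this
    exact hθ' this
  obtain ⟨dθ, -, hdθ⟩ := IsIrr.one_eq_pos hθMi
  have hup := degree_le_of_constituent hch ψ.2 hψ (m := dθ) (n := a ψ * dθ)
    (by show F (((1 : M) : H)) = _; rw [hF1, hdθ])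
    (by rw [had ψ ha0, hdθ, Nat.cast_mul])
  have heq : (fun x : M => F x) = (ψ : M → ℂ) := by
    refine eq_of_constituent_degree hch ψ.2 hψ ?_
    show F (((1 : M) : H)) = _
    rw [hF1, had ψ ha0]
    have : a ψ = 1 := by
      obtain ⟨dθ', hpos, hdθ'⟩ := IsIrr.one_eq_pos hθMi
      have : dθ' = dθ := by exact_mod_cast hdθ'.symm.trans hdθ
      subst this
      nlinarith [Nat.pos_of_ne_zero ha0]
    rw [this, Nat.cast_one, one_mul]
  exact ⟨heq ▸ ψ.2, hres⟩

/-- Over a cyclic subgroup of the quotient the character extends. -/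
theorem exists_ext (d : Data Z χ θ e) (C : Subgroup (H ⧸ Z)) (hC : IsCyclic C) :
    ∃ F : H → ℂ, IsExt θ (C.comap (QuotientGroup.mk' Z)) F := by
  classical
  set M := C.comap (QuotientGroup.mk' Z) with hM
  have hZM : Z ≤ M := fun z hz => by
    show QuotientGroup.mk' Z z ∈ C
    rw [show QuotientGroup.mk' Z z = 1 from (QuotientGroup.eq_one_iff z).2 hz]
    exact one_mem C
  letI : Fintype M := Fintype.ofFinite _
  letI : Fintype (Z.subgroupOf M) := Fintype.ofFinite _
  haveI : (Z.subgroupOf M).Normal := Subgroup.Normal.subgroupOf inferInstance _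
  let f : M →* C := ((QuotientGroup.mk' Z).comp M.subtype).codRestrict C fun m => m.2
  have hker : f.ker = Z.subgroupOf M := by
    ext m
    rw [MonoidHom.mem_ker, Subgroup.mem_subgroupOf, ← QuotientGroup.eq_one_iff (N := Z)]
    exact ⟨fun h => congrArg Subtype.val h, fun h => Subtype.ext h⟩
  haveI := hC
  haveI hcyc : IsCyclic (M ⧸ Z.subgroupOf M) := by
    let ι : M ⧸ Z.subgroupOf M →* C := QuotientGroup.lift (Z.subgroupOf M) f hker.ge
    refine isCyclic_of_injective ι ((injective_iff_map_eq_one ι).2 fun q hq => ?_)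
    induction q using QuotientGroup.induction_on with
    | _ m => exact (QuotientGroup.eq_one_iff m).2 (hker.le (show f m = 1 from hq))
  set θM : Z.subgroupOf M → ℂ := fun n => θ ⟨((n : M) : H), n.2⟩ with hθM
  have hθMi : IsIrrCharacter (Z.subgroupOf M) θM :=
    IsIrr.comp_mulEquiv (Subgroup.subgroupOfEquivOfLe hZM) d.hθ
  obtain ⟨ψ, hψ⟩ := IsChar.exists_constituent' (IsChar.res (IsIrr.isCharacter d.hχ) M)
    (show χ ((1 : M) : H) ≠ 0 from IsIrr.one_ne_zero d.hχ)
  have hov := d.over_of_constituent hZM ψ.2 hψ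
  have hov' : classInner (fun n : Z.subgroupOf M => (ψ : M → ℂ) n) θM ≠ 0 := by
    have := Corr.classInner_subgroupOf Z hZM
      (fun z : Z => (ψ : M → ℂ) ⟨(z : H), hZM z.2⟩) θ
    exact this.symm ▸ hov
  have hone := OverCyclic.mult_one hcyc hθMi ψ.2 hov'
  have hinv : inertia (Z.subgroupOf M) θM = ⊤ := eq_top_iff.2 fun t _ => by
    rw [mem_inertia]
    funext n
    exact congrFun (d.conj_eq (t : H)) ⟨((n : M) : H), n.2⟩
  have h1 := clifford_one (Z.subgroupOf M) ψ.2 hθMi hov'
  rw [hone, one_mul, hinv, Subgroup.index_top, Nat.cast_one, one_mul] at h1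
  have hres := eq_of_constituent_degree (IsChar.res (IsIrr.isCharacter ψ.2) (Z.subgroupOf M)) hθMi
    hov' h1
  refine ⟨fun x => if hx : x ∈ M then (ψ : M → ℂ) ⟨x, hx⟩ else 0, ?_, fun z => ?_⟩
  · simp only [SetLike.coe_mem, dite_true]
    exact ψ.2
  · simp only [hZM z.2, dite_true]
    exact congrFun hres ⟨⟨(z : H), hZM z.2⟩, z.2⟩

/-- Conjugation carries extensions to extensions. -/
theorem IsExt.conj (d : Data Z χ θ e) {M : Subgroup H} {F : H → ℂ} (hF : IsExt θ M F) {u : H}
    (hu : ∀ x, x ∈ M ↔ u * x * u⁻¹ ∈ M) : IsExt θ M (fun x => F (u * x * u⁻¹)) := by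
  refine ⟨?_, fun z => ?_⟩
  · let eqv : M ≃* M :=
      { toFun := fun x => ⟨u * x * u⁻¹, (hu x).1 x.2⟩
        invFun := fun x => ⟨u⁻¹ * x * u, (hu _).2 (by simp [mul_assoc])⟩
        left_inv := fun x => by simp [mul_assoc]
        right_inv := fun x => by simp [mul_assoc]
        map_mul' := fun a b => Subtype.ext (by simp [mul_assoc]) }
    exact IsIrr.comp_mulEquiv eqv hF.1
  · have h := congrFun (d.conj_eq u) z
    rw [conjN_apply] at h
    rw [← h]
    exact hF.2 ⟨_, _⟩

/-- Two extensions differ by a linear character. -/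
theorem IsExt.exists_linear (d : Data Z χ θ e) {M : Subgroup H} (hZM : Z ≤ M) {F F' : H → ℂ}
    (hF : IsExt θ M F) (hF' : IsExt θ M F') :
    ∃ l : M →* ℂˣ, (∀ x : M, (x : H) ∈ Z → l x = 1) ∧ ∀ x : M, F' x = (l x : ℂ) * F x := by
  classical
  letI : Fintype M := Fintype.ofFinite _
  letI : Fintype (Z.subgroupOf M) := Fintype.ofFinite _
  haveI : (Z.subgroupOf M).Normal := Subgroup.Normal.subgroupOf inferInstance _
  have hi := hF.res_irr d hZM
  have e1 : (fun n : Z.subgroupOf M => F' ((n : M) : H)) = fun n : Z.subgroupOf M => F ((n : M) : H) :=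
    hF'.res_eq.trans hF.res_eq.symm
  obtain ⟨hL, hmul⟩ := gallagher (Z.subgroupOf M) hF.1 hF'.1 hi
    (by rw [e1, classInner_self_irr hi]; exact one_ne_zero)
  set L := avgN (Z.subgroupOf M) ((fun x : M => F' x) * fun g : M => conj (F g)) with hLdef
  have hL1 : L 1 = 1 := by
    rw [hLdef, avgN_one_eq]
    have := classInner_self_irr hi
    simp only [classInner, Pi.mul_apply, map_one, mul_one] at this ⊢
    rw [← this]
    refine congrArg _ (Finset.sum_congr rfl fun n _ => ?_)
    rw [congrFun e1 n]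
  obtain ⟨l, hl⟩ := linearHom_of_isCharacter (IsIrr.isCharacter hL) hL1
  refine ⟨l, fun x hx => Units.ext ?_, fun x => ?_⟩
  · rw [← congrFun hl x, Units.val_one, ← hL1, ← mul_one x]
    exact avgN_mul_left (Z.subgroupOf M) _ ⟨x, hx⟩ 1
  · have := congrFun hmul x
    simp only [Pi.mul_apply] at this
    rw [← this, ← congrFun hl x, mul_comm]

/-- The linear character is determined. -/
theorem IsExt.linear_unique (d : Data Z χ θ e) {M : Subgroup H} (hZM : Z ≤ M) {F : H → ℂ}
    (hF : IsExt θ M F) {a b : M →* ℂˣ} (ha : ∀ x : M, (x : H) ∈ Z → a x = 1)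
    (hb : ∀ x : M, (x : H) ∈ Z → b x = 1) (h : ∀ x : M, (a x : ℂ) * F x = (b x : ℂ) * F x) :
    a = b := by
  refine MonoidHom.ext fun x => ?_
  obtain ⟨z, hz⟩ := hF.norm_coset d hZM x.2
  have h1 := h (⟨(z : H), hZM z.2⟩ * x)
  simp only [map_mul, ha _ (show ((⟨(z : H), hZM z.2⟩ : M) : H) ∈ Z from z.2),
    hb _ (show ((⟨(z : H), hZM z.2⟩ : M) : H) ∈ Z from z.2), one_mul, Subgroup.coe_mul] at h1
  exact Units.ext (mul_right_cancel₀ hz h1)

end Cfsg.Agent.Grp.CentralType
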