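import Cfsg.Agent.Lib.Grp.CentralType.Coset

/-!
A fully ramified quotient has no element of prime order whose centralizer acts trivially on the
extensions: the criterion used for components.
-/

namespace Cfsg.Agent.Grp.CentralType

open Cfsg Cfsg.Agent.Char Cfsg.Agent.Char.RamCompl Subgroup

set_option linter.unusedSectionVars false
set_option linter.style.haveILetI false

universe u

variable {H : Type u} [Group H] [Fintype H] {Z : Subgroup H} [Z.Normal] [Fintype Z]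
  {χ : H → ℂ} {θ : Z → ℂ} {e : ℕ}

/-- A linear character trivial on `Z` sees only the image in the quotient. -/
theorem lin_congr {M : Subgroup H} (l : M →* ℂˣ) (hl : ∀ x : M, (x : H) ∈ Z → l x = 1) (a b : M)
    (h : ((a : H) : H ⧸ Z) = ((b : H) : H ⧸ Z)) : l a = l b := by
  have h1 : ((a⁻¹ * b : M) : H) ∈ Z := by
    simpa using QuotientGroup.eq.1 h
  have h2 := hl _ h1
  rw [map_mul, map_inv, inv_mul_eq_one] at h2
  exact h2

/-- The criterion: no element of prime order is inverted, or otherwise moved to another power,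
by an element whose commutators with the centralizer lie in a part with cyclic subgroups. -/
theorem no_twist (d : Data Z χ θ e) {x : H ⧸ Z} {r : ℕ} (hr : r.Prime) (hx : orderOf x = r)
    {g : H ⧸ Z} {k : ℕ} (hg : g * x * g⁻¹ = x ^ k) (hk : x ^ k ≠ x) (S : Subgroup (H ⧸ Z))
    (hgS : ∀ y, Commute y x → y⁻¹ * g⁻¹ * y * g ∈ S)
    (hS : ∀ c ∈ S, Commute c x → ∀ j : ℕ, orderOf c = r ^ j →
      ∃ D : Subgroup (H ⧸ Z), IsCyclic D ∧ x ∈ D ∧ c ∈ D) : False := by
  classical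
  haveI : Fact r.Prime := ⟨hr⟩
  set C : Subgroup H := (centralizer ({x} : Set (H ⧸ Z))).comap (QuotientGroup.mk' Z) with hCdef
  set M : Subgroup H := (zpowers x).comap (QuotientGroup.mk' Z) with hMdef
  have hZM : Z ≤ M := fun z hz => by
    show QuotientGroup.mk' Z z ∈ zpowers x
    rw [show QuotientGroup.mk' Z z = 1 from (QuotientGroup.eq_one_iff z).2 hz]
    exact one_mem _
  obtain ⟨F, hF⟩ := exists_ext d (zpowers x) inferInstance
  change IsExt θ M F at hF
  have hmemC : ∀ {u : H}, u ∈ C ↔ Commute (u : H ⧸ Z) x := fun {u} =>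
    (mem_centralizer_singleton_iff.trans eq_comm).trans ⟨fun h => h.symm, fun h => h.eq.symm⟩
  have hCM : ∀ {u : H}, u ∈ C → ∀ m : M, ((u * m * u⁻¹ : H) : H ⧸ Z) = ((m : H) : H ⧸ Z) := by
    intro u hu m
    obtain ⟨i, hi⟩ := mem_zpowers_iff.1 m.2
    simp only [QuotientGroup.mk'_apply] at hi
    simp only [QuotientGroup.mk_mul, QuotientGroup.mk_inv]
    rw [← hi, ((hmemC.1 hu).zpow_right i).eq, mul_inv_cancel_right]
  have hnorm : ∀ {u : H}, u ∈ C → ∀ y, y ∈ M ↔ u * y * u⁻¹ ∈ M := by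
    intro u hu y
    constructor
    · intro hy
      show ((u * y * u⁻¹ : H) : H ⧸ Z) ∈ zpowers x
      rw [hCM hu ⟨y, hy⟩]
      exact hy
    · intro hy
      have h1 := hCM (C.inv_mem hu) ⟨_, hy⟩
      show ((y : H) : H ⧸ Z) ∈ zpowers x
      have e1 : u⁻¹ * (u * y * u⁻¹) * u⁻¹⁻¹ = y := by group
      rw [e1] at h1
      rw [h1]
      exact hy
  choose lam hlamZ hlam using fun u : C => hF.exists_linear d hZM (hF.conj d (hnorm u.2))
  have huniq : ∀ (u : C) (l : M →* ℂˣ), (∀ m : M, (m : H) ∈ Z → l m = 1) →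
      (∀ m : M, F ((u : H) * m * (u : H)⁻¹) = (l m : ℂ) * F m) → lam u = l := fun u l hl h =>
    hF.linear_unique d hZM (hlamZ u) hl fun m => (hlam u m).symm.trans (h m)
  have hmul : ∀ u v : C, lam (u * v) = lam u * lam v := by
    intro u v
    refine huniq _ _ (fun m hm => by
      rw [MonoidHom.mul_apply, hlamZ u m hm, hlamZ v m hm, one_mul]) fun m => ?_
    have hv : (v : H) * m * (v : H)⁻¹ ∈ M := (hnorm v.2 m).1 m.2
    have e1 : ((u * v : C) : H) * m * ((u * v : C) : H)⁻¹ =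
        (u : H) * ((⟨_, hv⟩ : M) : H) * (u : H)⁻¹ := by simp [mul_assoc]
    rw [e1, hlam u ⟨_, hv⟩]
    show ((lam u ⟨_, hv⟩ : ℂˣ) : ℂ) * F ((v : H) * m * (v : H)⁻¹) = _
    rw [hlam v m, lin_congr (lam u) (hlamZ u) ⟨_, hv⟩ m (hCM v.2 m), MonoidHom.mul_apply,
      Units.val_mul, mul_assoc]
  let Lam : C →* (M →* ℂˣ) := MonoidHom.mk' lam hmul
  have hZ1 : ∀ u : C, (u : H) ∈ Z → Lam u = 1 := fun u hu =>
    huniq u 1 (fun _ _ => rfl) fun m => by
      have huM : (u : H) ∈ M := hZM hu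
      have := IsIrr.classFun hF.1 m ⟨_, huM⟩
      simp only [coe_mul, coe_inv] at this
      rw [MonoidHom.one_apply, Units.val_one, one_mul, this]
  have hpowr : ∀ u : C, Lam u ^ r = 1 := fun u => MonoidHom.ext fun m => by
    rw [MonoidHom.pow_apply, ← map_pow, MonoidHom.one_apply]
    refine hlamZ u _ ?_
    obtain ⟨i, hi⟩ := mem_zpowers_iff.1 m.2
    simp only [QuotientGroup.mk'_apply] at hi
    rw [← QuotientGroup.eq_one_iff, coe_pow, QuotientGroup.mk_pow, ← hi, ← zpow_natCast,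
      zpow_comm, zpow_natCast, ← hx, pow_orderOf_eq_one, one_zpow]
  -- elements lying with `x` in a cyclic subgroup act trivially
  have hcyc : ∀ u : C, (∃ D : Subgroup (H ⧸ Z), IsCyclic D ∧ x ∈ D ∧ ((u : H) : H ⧸ Z) ∈ D) →
      Lam u = 1 := by
    rintro u ⟨D, hD, hxD, huD⟩
    obtain ⟨F0, hF0⟩ := exists_ext d D hD
    set MD := D.comap (QuotientGroup.mk' Z)
    have hMD : M ≤ MD := comap_mono (zpowers_le.2 hxD)
    have hF0M : IsExt θ M F0 := isExt_of_char d hZM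
      (IsChar.comp (Subgroup.inclusion hMD) (IsIrr.isCharacter hF0.1)) hF0.2
    obtain ⟨l, hlZ, hl⟩ := hF0M.exists_linear d hZM hF
    refine huniq u 1 (fun _ _ => rfl) fun m => ?_
    have hm' : (u : H) * m * (u : H)⁻¹ ∈ M := (hnorm u.2 m).1 m.2
    have hcl := IsIrr.classFun hF0.1 ⟨(m : H), hMD m.2⟩ ⟨(u : H), huD⟩
    simp only [coe_mul, coe_inv] at hcl
    rw [hl ⟨_, hm'⟩, lin_congr l hlZ ⟨_, hm'⟩ m (hCM u.2 m), hl m, MonoidHom.one_apply,
      Units.val_one, one_mul]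
    exact congrArg _ hcl
  -- hence the elements of `S`
  have hSone : ∀ c : C, ((c : H) : H ⧸ Z) ∈ S → Lam c = 1 := by
    intro c hcS
    set o := orderOf ((c : H) : H ⧸ Z) with ho
    obtain ⟨a, t, hrt, hat⟩ :=
      Nat.exists_eq_pow_mul_and_not_dvd (orderOf_pos ((c : H) : H ⧸ Z)).ne' r hr.ne_one
    have hord : orderOf (((c : H) : H ⧸ Z) ^ t) ∣ r ^ a := orderOf_dvd_of_pow_eq_one (by
      rw [← pow_mul, mul_comm, ← hat, pow_orderOf_eq_one])
    obtain ⟨j, -, hj⟩ := (Nat.dvd_prime_pow hr).1 hord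
    have hct : Lam (c ^ t) = 1 := by
      obtain ⟨D, hD, hxD, hcD⟩ := hS _ (S.pow_mem hcS t) ((hmemC.1 c.2).pow_left t) j hj
      exact hcyc _ ⟨D, hD, hxD, by simpa using hcD⟩
    have h1 : orderOf (Lam c) ∣ Nat.gcd t r := Nat.dvd_gcd
      (orderOf_dvd_of_pow_eq_one (by rw [← map_pow, hct])) (orderOf_dvd_of_pow_eq_one (hpowr c))
    rw [(((Nat.Prime.coprime_iff_not_dvd hr).2 hrt).symm).gcd_eq_one, Nat.dvd_one,
      orderOf_eq_one_iff] at h1
    exact h1
  -- the twisting element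
  obtain ⟨g', rfl⟩ := QuotientGroup.mk_surjective g
  have hgx : ∀ m : M, ((g' * m * g'⁻¹ : H) : H ⧸ Z) = ((m : H) : H ⧸ Z) ^ k := by
    intro m
    obtain ⟨i, hi⟩ := mem_zpowers_iff.1 m.2
    simp only [QuotientGroup.mk'_apply] at hi
    simp only [QuotientGroup.mk_mul, QuotientGroup.mk_inv]
    rw [← hi, ← conj_zpow, hg, ← zpow_natCast (x ^ i), ← zpow_mul, ← zpow_natCast x, ← zpow_mul,
      mul_comm]
  have hzk : zpowers (x ^ k) = zpowers x := by
    refine eq_of_le_of_card_ge (zpowers_le.2 (npow_mem_zpowers x k)) ?_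
    rw [Nat.card_zpowers, Nat.card_zpowers, ← hg,
      (show (g' : H ⧸ Z) * x * (g' : H ⧸ Z)⁻¹ = MulAut.conj (g' : H ⧸ Z) x from rfl),
      MulEquiv.orderOf_eq]
  have hgnorm : ∀ y, y ∈ M ↔ g' * y * g'⁻¹ ∈ M := by
    intro y
    constructor
    · intro hy
      show ((g' * y * g'⁻¹ : H) : H ⧸ Z) ∈ zpowers x
      rw [hgx ⟨y, hy⟩]
      exact pow_mem hy k
    · intro hy
      have hy' : (g' : H ⧸ Z) * (y : H ⧸ Z) * (g' : H ⧸ Z)⁻¹ ∈ zpowers (x ^ k) := hzk.symm ▸ hy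
      obtain ⟨i, hi⟩ := mem_zpowers_iff.1 hy'
      refine mem_zpowers_iff.2 ⟨i, (MulAut.conj (g' : H ⧸ Z)).injective ?_⟩
      rw [map_zpow, MulAut.conj_apply, MulAut.conj_apply, hg]
      exact hi
  obtain ⟨μ, hμZ, hμ⟩ := hF.exists_linear d hZM (hF.conj d hgnorm)
  have hall : ∀ u : C, Lam u = 1 := by
    intro u
    have hu := hmemC.1 u.2
    have hcomm : Commute ((g'⁻¹ * u * g' : H) : H ⧸ Z) x := by
      have h1 : ((u : H) : H ⧸ Z) * x ^ k * ((u : H) : H ⧸ Z)⁻¹ = x ^ k := by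
        rw [(hu.pow_right k).eq, mul_inv_cancel_right]
      rw [← hg] at h1
      rw [commute_iff_eq, ← mul_inv_eq_iff_eq_mul]
      simp only [QuotientGroup.mk_mul, QuotientGroup.mk_inv]
      refine (MulAut.conj (g' : H ⧸ Z)).injective ?_
      simp only [MulAut.conj_apply]
      refine Eq.trans ?_ h1
      group
    have hu' : g'⁻¹ * (u : H) * g' ∈ C := hmemC.2 hcomm
    have htw : Lam ⟨_, hu'⟩ = Lam u ^ k := by
      refine huniq _ _ (fun m hm => by
        rw [MonoidHom.pow_apply, show Lam u m = 1 from hlamZ u m hm, one_pow]) fun m => ?_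
      have hm1 : g' * (m : H) * g'⁻¹ ∈ M := (hgnorm m).1 m.2
      have hm2 : g'⁻¹ * (u : H) * g' * m * (g'⁻¹ * (u : H) * g')⁻¹ ∈ M :=
        (hnorm hu' m).1 m.2
      have e1 : (u : H) * ((⟨_, hm1⟩ : M) : H) * (u : H)⁻¹ =
          g' * ((⟨_, hm2⟩ : M) : H) * g'⁻¹ := by
        show (u : H) * (g' * m * g'⁻¹) * (u : H)⁻¹ = _
        group
      have h2 := hlam u ⟨_, hm1⟩
      rw [e1, hμ ⟨_, hm2⟩, lin_congr μ hμZ ⟨_, hm2⟩ m (hCM hu' m), hμ m,
        lin_congr (lam u) (hlamZ u) ⟨_, hm1⟩ (m ^ k) (by rw [hgx m, coe_pow, QuotientGroup.mk_pow]), map_pow,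
        Units.val_pow_eq_pow_val, mul_left_comm] at h2
      rw [MonoidHom.pow_apply, Units.val_pow_eq_pow_val]
      exact mul_left_cancel₀ (μ m).ne_zero h2
    have hcS : (((u⁻¹ * ⟨_, hu'⟩ : C) : H) : H ⧸ Z) ∈ S := by
      simpa [mul_assoc] using hgS _ hu
    have h3 : Lam ⟨_, hu'⟩ = Lam u := by
      have := hSone _ hcS
      rw [map_mul, map_inv, inv_mul_eq_one] at this
      exact this.symm
    rw [h3] at htw
    refine MonoidHom.ext fun m => ?_
    have hm1 := DFunLike.congr_fun htw m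
    have hm2 := DFunLike.congr_fun (hpowr u) m
    rw [MonoidHom.pow_apply] at hm1 hm2
    rcases (Nat.dvd_prime hr).1 (orderOf_dvd_of_pow_eq_one hm2) with h1 | h1
    · exact orderOf_eq_one_iff.1 h1
    · refine absurd ?_ hk
      rw [← pow_one (Lam u m), ← pow_mul, one_mul, pow_eq_pow_iff_modEq, h1, ← hx,
        ← pow_eq_pow_iff_modEq, pow_one] at hm1
      exact hm1.symm
  obtain ⟨h, rfl⟩ := QuotientGroup.mk_surjective x
  refine no_fixed d hZM (M := M) (h := h) (mem_zpowers _) (fun hh => ?_) hF fun u hu m hm => ?_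
  · rw [(QuotientGroup.eq_one_iff h).2 hh, orderOf_one] at hx
    exact hr.ne_one hx.symm
  · have huC : u ∈ C := hmemC.2 (by
      rw [commute_iff_eq, ← mul_inv_eq_iff_eq_mul, ← mul_inv_eq_one]
      simpa using (QuotientGroup.eq_one_iff _).2 hu)
    have h1 := hlam ⟨u, huC⟩ ⟨m, hm⟩
    rw [show lam ⟨u, huC⟩ = 1 from hall ⟨u, huC⟩] at h1
    simpa using h1

end Cfsg.Agent.Grp.CentralType
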