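import Cfsg.Agent.Lib.Grp.CentralType.Twist
import Cfsg.Agent.Lib.Grp.CentralType.Cases
import Cfsg.Agent.Lib.Grp.CentralType.AutEight
import Cfsg.Agent.Lib.Invol.AbelTwo.EightSylow
import Cfsg.Agent.Lib.Invol.SmallCent.Local
import Cfsg.Agent.Lib.Invol.GW.Consumers.Dihedral
import Cfsg.Agent.Lib.Grp.Coprime
import Cfsg.Agent.Lib.Transfer.Abelian

/-!
A simple subgroup of `JR` kind: the centralizer of one of its involutions fixes the extensions.
-/

namespace Cfsg.Agent.Grp.CentralType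

open Cfsg Cfsg.Agent.Char Cfsg.Agent.Char.RamCompl Subgroup
open scoped Pointwise

set_option linter.unusedSectionVars false
set_option linter.style.haveILetI false
set_option maxHeartbeats 1000000

universe u

theorem mem_normalizer_of_conj_le {G : Type u} [Group G] [Finite G] {K : Subgroup G} {g : G}
    (h : ∀ x ∈ K, g * x * g⁻¹ ∈ K) : g ∈ normalizer (K : Set G) := by
  rw [mem_normalizer_iff_smul]
  refine eq_of_le_of_card_ge (fun x hx => ?_) (Nat.card_congr (equivSMul (MulAut.conj g) K).toEquiv).le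
  rw [← inv_inv g, map_inv, mem_inv_pointwise_smul_iff] at hx
  have := h _ hx
  simpa [mul_assoc] using this

variable {H : Type u} [Group H] [Fintype H] {Z : Subgroup H} [Z.Normal] [Fintype Z]
  {χ : H → ℂ} {θ : Z → ℂ} {e : ℕ} {S : Subgroup (H ⧸ Z)}

theorem NormalisedByCents.mem_normalizer (hN : NormalisedByCents S) {y x : H ⧸ Z} (hx : x ∈ S)
    (hx1 : x ≠ 1) (h : Commute y x) : y ∈ normalizer (S : Set (H ⧸ Z)) :=
  mem_normalizer_of_conj_le (hN y x hx hx1 h)

/-- The whole centralizer of an involution in a subgroup of `JR` kind fixes the extensions. -/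
theorem cent_le_fix (d : Data Z χ θ e) [IsSimpleGroup S] (T : Sylow 2 S)
    (hT : Nat.card (T : Subgroup S) = 8) {t : S} (ht2 : t * t = 1) (ht1 : t ≠ 1)
    (hJR : Invol.AbelTwo.JRShape t) :
    (centralizer ({t} : Set S)).map S.subtype ≤ fixSub θ (t : H ⧸ Z) := by
  classical
  haveI : Fact (Nat.Prime 2) := ⟨Nat.prime_two⟩
  obtain ⟨-, E, ⟨-, hEC, -, hinf, -⟩, F, _, _, hodd, hq, N, hNn, ⟨iso⟩, -⟩ := hJR
  have ht' : ((t : S) : H ⧸ Z) ^ 2 = 1 := by rw [sq, ← coe_mul, ht2, OneMemClass.coe_one]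
  have hcent : ∀ x : S, x ∈ centralizer ({t} : Set S) → Commute (x : H ⧸ Z) t := fun x hx =>
    congrArg Subtype.val (mem_centralizer_singleton_iff.1 hx)
  set D := (centralizer ({t} : Set S)).map S.subtype with hD
  have hDC : D ≤ centralizer ({(t : H ⧸ Z)} : Set (H ⧸ Z)) := by
    rintro _ ⟨x, hx, rfl⟩
    exact mem_centralizer_singleton_iff.2 (hcent x hx).eq
  let f : N →* H ⧸ Z := S.subtype.comp (E.subtype.comp N.subtype)
  haveI : IsSimpleGroup (Matrix.ProjectiveSpecialLinearGroup (Fin 2) F) :=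
    Classical.PSL_isSimple le_rfl fun _ => by omega
  haveI : Nontrivial N := iso.toEquiv.nontrivial
  haveI : IsSimpleGroup N := IsSimpleGroup.isSimpleGroup_of_surjective iso.symm.toMonoidHom iso.symm.surjective
  have hcN : 2 * Nat.card N = Fintype.card F * ((Fintype.card F - 1) * (Fintype.card F + 1)) := by
    rw [Nat.card_congr iso.toEquiv]
    exact Invol.GW.card_PSLTwo hodd
  have h4 : 4 ∣ Nat.card N := by
    obtain ⟨k, hk⟩ := hodd
    refine Nat.dvd_of_mul_dvd_mul_left two_pos ?_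
    rw [hcN]
    refine dvd_mul_of_dvd_right ?_ _
    obtain ⟨j, hj⟩ := Nat.even_mul_succ_self k
    rw [hk, show 2 * k + 1 - 1 = 2 * k by omega]
    exact ⟨j, by linarith [show 2 * k * (2 * k + 1 + 1) = 4 * (k * (k + 1)) by ring]⟩
  have hna : ¬ IsMulCommutative N := fun h => by
    have hpr : (Nat.card N).Prime := by
      letI : CommGroup N := { (inferInstance : Group N) with mul_comm := h.is_comm.comm }
      exact IsSimpleGroup.prime_card
    exact absurd ((Nat.prime_dvd_prime_iff_eq Nat.prime_two hpr).1 (dvd_trans (by norm_num) h4))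
      (fun e => by rw [← e] at h4; norm_num at h4)
  have hfN : ∀ a : N, f a ∈ fixSub θ (t : H ⧸ Z) := by
    intro a
    have hle : commutator N ≤ (fixSub θ (t : H ⧸ Z)).comap f := by
      rw [_root_.commutator_def, commutator_le]
      intro a _ b _
      rw [mem_comap, map_commutatorElement, commutatorElement_def]
      exact commutator_mem_fixSub d (hcent _ (hEC a.1.2)) (hcent _ (hEC b.1.2))
    exact hle (perfect_of_simple hna ▸ mem_top a)
  have htN : ∀ (i : zpowers (t : H ⧸ Z)) (a : N), Commute (i : H ⧸ Z) (f a) := by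
    intro i a
    obtain ⟨n, hn⟩ := mem_zpowers_iff.1 i.2
    rw [← hn]
    exact ((hcent _ (hEC a.1.2)).zpow_right n).symm
  let g := (zpowers (t : H ⧸ Z)).subtype.noncommCoprod f htN
  have hg : Function.Injective g := (injective_iff_map_eq_one g).2 fun p hp => by
    change (p.1 : H ⧸ Z) * f p.2 = 1 at hp
    obtain ⟨n, hn⟩ := mem_zpowers_iff.1 p.1.2
    have hmem : t ^ n ∈ zpowers t ⊓ E := by
      refine ⟨zpow_mem (mem_zpowers t) n, ?_⟩
      have : t ^ n = ((p.2 : N) : S)⁻¹ := Subtype.ext (by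
        rw [SubgroupClass.coe_zpow, hn, coe_inv]
        exact eq_inv_of_mul_eq_one_left hp)
      rw [this]
      exact E.inv_mem p.2.1.2
    rw [hinf, mem_bot] at hmem
    have h1 : (p.1 : H ⧸ Z) = 1 := by rw [← hn, ← SubgroupClass.coe_zpow, hmem, OneMemClass.coe_one]
    change (p.1 : H ⧸ Z) * f p.2 = 1 at hp
    rw [h1, one_mul] at hp
    exact Prod.ext (Subtype.ext h1) (S.subtype_injective.comp
      (E.subtype_injective.comp N.subtype_injective) (hp.trans (map_one f).symm))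
  have hgle : g.range ≤ fixSub θ (t : H ⧸ Z) ⊓ D := by
    rintro _ ⟨p, rfl⟩
    show (p.1 : H ⧸ Z) * f p.2 ∈ _
    refine mul_mem ⟨zpowers_le.2 (self_mem_fixSub d _) p.1.2, ?_⟩
      ⟨hfN p.2, mem_map_of_mem _ (hEC p.2.1.2)⟩
    refine zpowers_le.2 ?_ p.1.2
    exact mem_map_of_mem _ (mem_centralizer_singleton_iff.2 rfl)
  have h8 : 8 ∣ Nat.card ↥(fixSub θ (t : H ⧸ Z) ⊓ D) := by
    refine dvd_trans ?_ (card_dvd_of_le hgle)
    rw [← Nat.card_congr (MonoidHom.ofInjective hg).toEquiv, Nat.card_prod, Nat.card_zpowers,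
      orderOf_coe, orderOf_eq_prime (by rw [sq, ht2]) ht1]
    exact mul_dvd_mul_left 2 h4
  refine le_fixSub_of_odd d ht' hDC fun h => ?_
  have h16 : 2 ^ 4 ∣ Nat.card S := by
    have h1 : 16 ∣ Nat.card D := by
      rw [← ((fixSub θ (t : H ⧸ Z)).subgroupOf D).index_mul_card, ← relIndex,
        show Nat.card ((fixSub θ (t : H ⧸ Z)).subgroupOf D) =
          Nat.card ↥(fixSub θ (t : H ⧸ Z) ⊓ D) by
          rw [← inf_subgroupOf_right, Nat.card_congr (subgroupOfEquivOfLe inf_le_right).toEquiv]]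
      exact mul_dvd_mul h h8
    rw [hD, card_map_of_injective S.subtype_injective] at h1
    exact h1.trans (card_subgroup_dvd_card _)
  have := T.pow_dvd_card_of_pow_dvd_card h16
  rw [hT] at this
  norm_num at this

theorem false_of_jr (d : Data Z χ θ e) [IsSimpleGroup S] (hna : ¬ IsMulCommutative S)
    (hN : NormalisedByCents S) (P : Sylow 2 (H ⧸ Z)) (T : Sylow 2 S)
    (hTP : (T : Subgroup S).map S.subtype ≤ P)
    (hP : IsMulCommutative (P : Subgroup (H ⧸ Z)) ∨ Nat.card (P : Subgroup (H ⧸ Z)) = 16)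
    (hT : Nat.card (T : Subgroup S) = 8) (hexp : ∀ x ∈ (T : Subgroup S), x * x = 1)
    (hJR : ∀ t ∈ (T : Subgroup S), t ≠ 1 → Invol.AbelTwo.JRShape t) : False := by
  classical
  haveI : Fact (Nat.Prime 2) := ⟨Nat.prime_two⟩
  set T' := (T : Subgroup S).map S.subtype with hT'
  have hcT : Nat.card T' = 8 := (card_map_of_injective S.subtype_injective).trans hT
  have hT'S : T' ≤ S := map_subtype_le _
  have hexp' : ∀ x : T', x * x = 1 := by
    rintro ⟨_, x, hx, rfl⟩
    exact Subtype.ext (congrArg S.subtype (hexp x hx))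
  have hTc : ∀ a ∈ (T : Subgroup S), ∀ b ∈ (T : Subgroup S), a * b = b * a := fun a ha b hb => by
    have h1 : (a * b)⁻¹ = a * b := inv_eq_of_mul_eq_one_right (hexp _ (mul_mem ha hb))
    rw [mul_inv_rev, inv_eq_of_mul_eq_one_right (hexp a ha),
      inv_eq_of_mul_eq_one_right (hexp b hb)] at h1
    exact h1.symm
  have hT'c : ∀ a ∈ T', ∀ b ∈ T', a * b = b * a := by
    rintro _ ⟨a, ha, rfl⟩ _ ⟨b, hb, rfl⟩
    exact congrArg Subtype.val (hTc a ha b hb)
  -- the automorphisms induced by `S`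
  set Ng := normalizer (T' : Set (H ⧸ Z)) with hNg
  let cj : Ng →* MulAut T' := T'.normalizerMonoidHom
  have hcj : ∀ (n : Ng) (a : T'), ((cj n a : T') : H ⧸ Z) = n * a * (n : H ⧸ Z)⁻¹ := fun _ _ => rfl
  set A := (S.subgroupOf Ng).map cj with hA
  have hoddA : Odd (Nat.card A) := by
    rw [← Nat.not_even_iff_odd, even_iff_two_dvd]
    intro h2
    let F := cj.comp (S.subgroupOf Ng).subtype
    have hAF : A = F.range := by
      rw [hA, MonoidHom.range_comp, range_subtype]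
    have hker : (T'.subgroupOf Ng).subgroupOf (S.subgroupOf Ng) ≤ F.ker := fun n hn => by
      rw [MonoidHom.mem_ker]
      refine MulEquiv.ext fun a => Subtype.ext ?_
      show ((n : Ng) : H ⧸ Z) * a * (((n : Ng) : H ⧸ Z))⁻¹ = a
      have hn' : ((n : Ng) : H ⧸ Z) ∈ T' := hn
      rw [hT'c _ hn' _ a.2, mul_inv_cancel_right]
    have h1 : Nat.card A ∣ (T'.subgroupOf Ng).relIndex (S.subgroupOf Ng) := by
      rw [hAF, ← index_ker]
      exact index_dvd_of_le hker
    rw [show T'.subgroupOf Ng = T'.comap Ng.subtype from rfl, relIndex_comap,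
      subgroupOf_map_subtype] at h1
    have hTN : T' ≤ S ⊓ Ng := le_inf hT'S le_normalizer
    have h3 : T'.relIndex (S ⊓ Ng) ∣ T'.relIndex S := by
      rw [← relIndex_mul_relIndex T' (S ⊓ Ng) S hTN inf_le_left]
      exact dvd_mul_right _ _
    have h4 : T'.relIndex S = (T : Subgroup S).index := by
      rw [relIndex, hT']
      exact congrArg index (comap_map_eq_self_of_injective S.subtype_injective _)
    exact T.not_dvd_index (h2.trans ((h1.trans h3).trans h4.dvd))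
  have hfixA : ∀ a : T', (∀ f ∈ A, f a = a) → a = 1 := by
    rintro ⟨_, a, ha, rfl⟩ hfix
    have hC : a ∈ centralizer (normalizer ((T : Subgroup S) : Set S) : Set S) := by
      rw [mem_centralizer_iff]
      intro n hn
      have hnN : (n : H ⧸ Z) ∈ Ng := mem_normalizer_of_conj_le (by
        rintro _ ⟨x, hx, rfl⟩
        exact ⟨n * x * n⁻¹, (mem_normalizer_iff.1 hn x).1 hx, by simp⟩)
      have := hfix (cj ⟨_, hnN⟩) ⟨⟨_, hnN⟩, n.2, rfl⟩
      have h1 := congrArg Subtype.val this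
      rw [hcj] at h1
      exact Subtype.ext (by simpa using mul_inv_eq_iff_eq_mul.1 h1)
    have h0 := (Transfer.abelian_sylow_decomp T ⟨⟨fun x y => Subtype.ext
      (hTc _ x.2 _ y.2)⟩⟩).1
    rw [Invol.SmallCent.pResidual_eq_top (fun h => hna ⟨⟨fun a b =>
      (IsCyclic.commGroup (α := S)).mul_comm a b⟩⟩), inf_top_eq] at h0
    have : a ∈ (⊥ : Subgroup S) := h0 ▸ ⟨ha, ha, hC⟩
    exact Subtype.ext (show S.subtype a = 1 by rw [mem_bot.1 this, map_one])
  obtain ⟨⟨q, hqA, hq⟩, hinvol⟩ := AutEight.exists_seven hcT hexp' A hoddA hfixA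
  have hne : ∀ a : T', a ≠ 1 → (a : H ⧸ Z) ≠ 1 := fun a h h' => h (Subtype.ext h')
  -- `P` centralizes `T'` and is abelian
  have hPT : ∀ y ∈ (P : Subgroup (H ⧸ Z)), ∀ a ∈ T', y * a = a * y := by
    rcases hP with hP | hP
    · exact fun y hy a ha => congrArg Subtype.val (hP.is_comm.comm ⟨y, hy⟩ ⟨a, hTP ha⟩)
    intro y hy a ha
    have hidx : (T'.subgroupOf (P : Subgroup (H ⧸ Z))).index = 2 := by
      have h := (T'.subgroupOf (P : Subgroup (H ⧸ Z))).card_mul_index
      rw [Nat.card_congr (subgroupOfEquivOfLe hTP).toEquiv, hcT, hP] at h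
      omega
    haveI := normal_of_index_eq_two hidx
    have hyN : y ∈ Ng := mem_normalizer_of_conj_le fun x hx => by
      simpa [mem_subgroupOf] using Subgroup.Normal.conj_mem (inferInstance :
        (T'.subgroupOf (P : Subgroup (H ⧸ Z))).Normal) ⟨x, hTP hx⟩ hx ⟨y, hy⟩
    have hy2 : y * y ∈ T' := by
      have := (mul_mem_iff_of_index_two hidx (a := ⟨y, hy⟩) (b := ⟨y, hy⟩)).2 Iff.rfl
      simpa [mem_subgroupOf] using this
    have hφ : cj ⟨y, hyN⟩ * cj ⟨y, hyN⟩ = 1 := by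
      rw [← map_mul]
      refine MulEquiv.ext fun b => Subtype.ext ?_
      rw [hcj, MulAut.one_apply]
      show y * y * b * (y * y)⁻¹ = b
      rw [hT'c _ hy2 _ b.2, mul_inv_cancel_right]
    have hyS : y ∈ normalizer (S : Set (H ⧸ Z)) := by
      have h := AutEight.card_fixed_modEq (p := 2) (by rw [sq]; exact hφ)
      rw [hcT] at h
      obtain ⟨b, hb, hb1⟩ := (AutEight.fixed (cj ⟨y, hyN⟩)).bot_or_exists_ne_one.resolve_left
        fun e => by rw [e, card_bot] at h; simp [Nat.ModEq] at h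
      refine hN.mem_normalizer (hT'S b.2) (hne b hb1) ?_
      have := congrArg Subtype.val (show cj ⟨y, hyN⟩ b = b from hb)
      rw [hcj] at this
      exact mul_inv_eq_iff_eq_mul.1 this
    have hone := hinvol _ hφ fun f hf => by
      obtain ⟨n, hn, rfl⟩ := hf
      rw [← inv_eq_of_mul_eq_one_right hφ]
      nth_rw 1 [inv_eq_of_mul_eq_one_right hφ]
      rw [← map_inv, ← map_mul, ← map_mul]
      exact ⟨_, (mem_normalizer_iff.1 hyS _).1 hn, rfl⟩
    have := congrArg Subtype.val (DFunLike.congr_fun hone ⟨a, ha⟩)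
    rw [hcj, MulAut.one_apply] at this
    exact mul_inv_eq_iff_eq_mul.1 this
  have hPc : ∀ a ∈ (P : Subgroup (H ⧸ Z)), ∀ b ∈ (P : Subgroup (H ⧸ Z)), a * b = b * a := by
    rcases hP with hP | hP
    · exact fun a ha b hb => congrArg Subtype.val (hP.is_comm.comm ⟨a, ha⟩ ⟨b, hb⟩)
    intro a ha b hb
    have hidx : (T'.subgroupOf (P : Subgroup (H ⧸ Z))).index = 2 := by
      have h := (T'.subgroupOf (P : Subgroup (H ⧸ Z))).card_mul_index
      rw [Nat.card_congr (subgroupOfEquivOfLe hTP).toEquiv, hcT, hP] at h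
      omega
    by_cases ha' : a ∈ T'
    · exact (hPT b hb a ha').symm
    by_cases hb' : b ∈ T'
    · exact hPT a ha b hb'
    have h1 : a⁻¹ * b ∈ T' := by
      have := (mul_mem_iff_of_index_two hidx (a := ⟨a, ha⟩⁻¹) (b := ⟨b, hb⟩)).2
        (by simp [mem_subgroupOf, ha', hb'])
      simpa [mem_subgroupOf] using this
    have h2 := hPT a ha _ h1
    calc a * b = a * (a * (a⁻¹ * b)) := by group
      _ = a * (a⁻¹ * b * a) := by rw [h2]
      _ = b * a := by group
  obtain ⟨t', ht'1⟩ : ∃ t' : T', t' ≠ 1 := by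
    haveI : Nontrivial T' := Finite.one_lt_card_iff_nontrivial.1 (by rw [hcT]; norm_num)
    exact exists_ne 1
  obtain ⟨⟨_, t, htT, rfl⟩, htne⟩ := (⟨t', ht'1⟩ : ∃ t' : T', t' ≠ 1)
  have ht1 : t ≠ 1 := fun h => htne (Subtype.ext (show S.subtype t = 1 by rw [h, map_one]))
  have hto : orderOf (t : H ⧸ Z) = 2 :=
    (orderOf_coe t).trans (orderOf_eq_prime (by rw [sq, hexp t htT]) ht1)
  have htm : (t : H ⧸ Z) ∈ T' := mem_map_of_mem _ htT
  have hDfix := cent_le_fix d T hT (hexp t htT) ht1 (hJR t htT ht1)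
  have hTfix : T' ≤ fixSub θ (t : H ⧸ Z) := by
    rintro _ ⟨a, ha, rfl⟩
    exact hDfix (mem_map_of_mem _ (mem_centralizer_singleton_iff.2 (hTc a ha t htT)))
  refine false_of_sylow_fix d hto (R := (P : Subgroup (H ⧸ Z))) (fun k hk => ?_)
    fun h2 => P.not_dvd_index (h2.trans (relIndex_dvd_index_of_le fun y hy =>
      mem_centralizer_singleton_iff.2 (hPT y hy _ htm)))
  -- an element of order seven normalising `P`
  have hPS : ∀ y ∈ (P : Subgroup (H ⧸ Z)), y ∈ normalizer (S : Set (H ⧸ Z)) := fun y hy =>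
    hN.mem_normalizer t.2 (fun h => ht1 (Subtype.ext h)) (hPT y hy _ htm)
  have hPS' : ∀ x, x ∈ (P : Subgroup (H ⧸ Z)) → x ∈ S → x ∈ T' := by
    intro x hxP hxS
    have hp : IsPGroup 2 ((P : Subgroup (H ⧸ Z)).subgroupOf S) :=
      P.isPGroup'.comap_of_injective S.subtype S.subtype_injective
    have := T.3 hp (fun a ha => hTP (mem_map_of_mem _ ha))
    exact ⟨⟨x, hxS⟩, this ▸ (show (⟨x, hxS⟩ : S) ∈ _ from hxP), rfl⟩
  obtain ⟨g0, hg0, hq0⟩ := hqA
  set C0 := S ⊓ centralizer (T' : Set (H ⧸ Z)) with hC0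
  have hmemC0 : ∀ {x}, x ∈ C0 ↔ x ∈ S ∧ ∀ a ∈ T', a * x = x * a := fun {x} => by
    rw [hC0, mem_inf, mem_centralizer_iff]; rfl
  have hPC0 : (P : Subgroup (H ⧸ Z)) ≤ normalizer (C0 : Set (H ⧸ Z)) := fun y hy =>
    mem_normalizer_of_conj_le fun x hx => by
      rw [hmemC0] at hx ⊢
      refine ⟨(mem_normalizer_iff.1 (hPS y hy) x).1 hx.1, fun a ha => ?_⟩
      have h1 : Commute a y := (hPT y hy a ha).symm
      exact (h1.mul_right (hx.2 a ha)).mul_right h1.inv_right
  set J := (P : Subgroup (H ⧸ Z)) ⊔ C0 with hJ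
  have hgP : ((MulAut.conj (g0 : H ⧸ Z) • P : Sylow 2 (H ⧸ Z)) : Subgroup (H ⧸ Z)) ≤ J := by
    intro x hx
    change x ∈ MulAut.conj (g0 : H ⧸ Z) • (P : Subgroup (H ⧸ Z)) at hx
    rw [mem_pointwise_smul_iff_inv_smul_mem] at hx
    set y := (MulAut.conj (g0 : H ⧸ Z))⁻¹ • x with hy
    have hxy : x = g0 * y * (g0 : H ⧸ Z)⁻¹ := by rw [hy]; simp [mul_assoc]
    have hmem : x * y⁻¹ ∈ C0 := by
      rw [hmemC0]
      constructor
      · rw [hxy, mul_assoc, mul_assoc]
        refine S.mul_mem hg0 ?_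
        rw [← mul_assoc]
        exact (mem_normalizer_iff.1 (hPS y hx) _).1 (S.inv_mem hg0)
      · intro a ha
        have h1 : Commute a (g0 * y * (g0 : H ⧸ Z)⁻¹) := by
          have ha' := (mem_normalizer_iff''.1 g0.2 a).1 ha
          have := (hPT y hx _ ha').symm
          have h2 := congrArg (fun z => (g0 : H ⧸ Z) * z * (g0 : H ⧸ Z)⁻¹) this
          simp only [mul_assoc, inv_mul_cancel_left, mul_inv_cancel_left] at h2
          simpa [Commute, SemiconjBy, mul_assoc] using h2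
        rw [← hxy] at h1
        exact h1.mul_right (Commute.inv_right (hPT y hx a ha).symm)
    have : x = (x * y⁻¹) * y := by group
    rw [this]
    exact J.mul_mem (mem_sup_right hmem) (mem_sup_left hx)
  obtain ⟨⟨j, hj⟩, hjP⟩ := MulAction.exists_smul_eq J
    ((MulAut.conj (g0 : H ⧸ Z) • P : Sylow 2 (H ⧸ Z)).subtype hgP) (P.subtype le_sup_left)
  have hj' : j ∈ ((P : Subgroup (H ⧸ Z)) : Set (H ⧸ Z)) * (C0 : Set (H ⧸ Z)) := by
    rw [← coe_mul_of_left_le_normalizer_right _ C0 hPC0]; exact hj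
  obtain ⟨p, hp, o, ho, rfl⟩ := Set.mem_mul.1 hj'
  have hog : o * (g0 : H ⧸ Z) ∈ normalizer ((P : Subgroup (H ⧸ Z)) : Set (H ⧸ Z)) := by
    refine mem_normalizer_of_conj_le fun x hx => ?_
    have hx0 : (g0 : H ⧸ Z) * x * (g0 : H ⧸ Z)⁻¹ ∈
        ((MulAut.conj (g0 : H ⧸ Z) • P : Sylow 2 (H ⧸ Z)) : Subgroup (H ⧸ Z)) := by
      exact smul_mem_pointwise_smul x (MulAut.conj (g0 : H ⧸ Z)) (P : Subgroup (H ⧸ Z)) hx
    have h1 := smul_mem_pointwise_smul (⟨_, hgP hx0⟩ : J) (MulAut.conj (⟨p * o, hj⟩ : J))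
      (((MulAut.conj (g0 : H ⧸ Z) • P : Sylow 2 (H ⧸ Z)).subtype hgP : Sylow 2 J) : Subgroup J) hx0
    have hjP' := congrArg (fun Q : Sylow 2 J => (Q : Subgroup J)) hjP
    change MulAut.conj (⟨p * o, hj⟩ : J) •
      (((MulAut.conj (g0 : H ⧸ Z) • P : Sylow 2 (H ⧸ Z)).subtype hgP : Sylow 2 J) : Subgroup J) =
      _ at hjP'
    rw [hjP'] at h1
    change (p * o) * ((g0 : H ⧸ Z) * x * (g0 : H ⧸ Z)⁻¹) * (p * o)⁻¹ ∈ (P : Subgroup (H ⧸ Z)) at h1
    have h2 := mul_mem (mul_mem (inv_mem hp) h1) hp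
    convert h2 using 1
    group
  have hoS : o * (g0 : H ⧸ Z) ∈ S := S.mul_mem (hmemC0.1 ho).1 hg0
  have hoN : o * (g0 : H ⧸ Z) ∈ Ng := Ng.mul_mem (mem_normalizer_of_conj_le fun a ha => by
    rw [← (hmemC0.1 ho).2 a ha, mul_inv_cancel_right]; exact ha) g0.2
  have hcjo : cj ⟨_, hoN⟩ = q := by
    rw [← hq0]
    refine MulEquiv.ext fun a => Subtype.ext ?_
    rw [hcj, hcj]
    show o * g0 * a * (o * (g0 : H ⧸ Z))⁻¹ = _
    rw [show o * (g0 : H ⧸ Z) * a * (o * g0)⁻¹ = o * (g0 * a * (g0 : H ⧸ Z)⁻¹) * o⁻¹ by group,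
      ← (hmemC0.1 ho).2 _ ((mem_normalizer_iff.1 g0.2 _).1 a.2), mul_inv_cancel_right]
  set g1 : Ng := ⟨_, hoN⟩
  obtain ⟨a, m, hm, hord⟩ :=
    Nat.exists_eq_pow_mul_and_not_dvd (orderOf_pos g1).ne' 2 (by norm_num)
  set g := g1 ^ 2 ^ a with hg
  have hgq : orderOf (cj g) = 7 := by
    rw [hg, map_pow, hcjo, Nat.Coprime.orderOf_pow, hq]
    rw [hq]
    exact Nat.Coprime.pow_right a (by norm_num)
  have hfpf := AutEight.fpf_of_seven hcT hgq
  have hgS : (g : H ⧸ Z) ∈ S := by rw [hg, SubmonoidClass.coe_pow]; exact S.pow_mem hoS _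
  have hgP' : (g : H ⧸ Z) ∈ normalizer ((P : Subgroup (H ⧸ Z)) : Set (H ⧸ Z)) := by
    rw [hg, SubmonoidClass.coe_pow]; exact pow_mem hog _
  have hgm : orderOf (g : H ⧸ Z) ∣ m := by
    refine orderOf_dvd_of_pow_eq_one ?_
    rw [hg, SubmonoidClass.coe_pow, ← pow_mul, ← hord, ← SubmonoidClass.coe_pow,
      pow_orderOf_eq_one, OneMemClass.coe_one]
  have hcop : (orderOf (g : H ⧸ Z)).Coprime 2 :=
    Nat.Coprime.coprime_dvd_left hgm
      ((Nat.Prime.coprime_iff_not_dvd Nat.prime_two).2 hm).symm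
  have hAle : zpowers (g : H ⧸ Z) ≤ normalizer ((P : Subgroup (H ⧸ Z)) : Set (H ⧸ Z)) :=
    zpowers_le.2 hgP'
  obtain ⟨b, hb⟩ := IsPGroup.iff_card.1 P.isPGroup'
  obtain ⟨c, ⟨hcP, hcg⟩, hck⟩ := Grp.exists_fixed_rep (zpowers (g : H ⧸ Z)) (P : Subgroup (H ⧸ Z)) T'
    hAle (by
      refine inf_eq_bot_of_coprime ?_
      rw [Nat.card_zpowers, hb]
      exact hcop.pow_right b)
    (by rw [Nat.card_zpowers, hcT]; exact hcop.pow_right 3)
    (Or.inl (Group.isSolvable_of_comm fun x y => (IsCyclic.commGroup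
      (α := zpowers (g : H ⧸ Z))).mul_comm x y))
    hTP (fun y hy => mem_normalizer_of_conj_le fun x hx => by
      rw [hPT y hy x hx, mul_inv_cancel_right]; exact hx)
    (zpowers_le.2 g.2) hk (fun y hy => by
      have hyS : y ∈ S := zpowers_le.2 hgS hy
      refine hPS' _ (mul_mem ((mem_normalizer_iff.1 (hAle hy) k).1 hk) (inv_mem hk)) ?_
      rw [show y * k * y⁻¹ * k⁻¹ = y * (k * y⁻¹ * k⁻¹) by group]
      exact S.mul_mem hyS ((mem_normalizer_iff.1 (hPS k hk) _).1 (S.inv_mem hyS)))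
  have hgc : Commute (g : H ⧸ Z) c := mem_centralizer_iff.1 hcg _ (mem_zpowers _)
  have hsurj : Function.Surjective fun v : T' => cj g v * v⁻¹ := by
    refine (Finite.injective_iff_surjective).1 fun v w hvw => ?_
    have hcom : ∀ x y : T', x * y = y * x := fun x y => Subtype.ext (hT'c _ x.2 _ y.2)
    have hfix : w⁻¹ * v ∈ AutEight.fixed (cj g) := by
      show cj g (w⁻¹ * v) = w⁻¹ * v
      rw [map_mul, map_inv, mul_inv_eq_iff_eq_mul.1 (hvw : cj g v * v⁻¹ = cj g w * w⁻¹)]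
      group
    rw [hfpf, mem_bot, inv_mul_eq_one] at hfix
    exact hfix.symm
  have htc : (t : H ⧸ Z) ∈ fixSub θ c := by
    obtain ⟨v, hv⟩ := hsurj ⟨_, htm⟩
    have := congrArg Subtype.val hv
    simp only [coe_mul, coe_inv, hcj] at this
    rw [← this]
    exact commutator_mem_fixSub d hgc (hPc _ (hTP v.2) _ hcP)
  have hck' := hTfix hck
  rw [show k = c * (k⁻¹ * c)⁻¹ by group]
  exact mul_mem (fixSub_symm d htc) (inv_mem hck')

end Cfsg.Agent.Grp.CentralType
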