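import Cfsg.Agent.Lib.Grp.CentralType.Coset

/-!
Characters over the character below, on a subgroup that is abelian modulo the bottom one: any two
differ by a linear character, and one with no nontrivial linear symmetry extends.
-/

open scoped ComplexConjugate

namespace Cfsg.Agent.Grp.CentralType

open Cfsg Cfsg.Agent.Char Cfsg.Agent.Char.RamCompl

set_option linter.unusedSectionVars false
set_option linter.style.haveILetI false

universe u

/-- A character that averages nontrivially over a subgroup containing the derived group has a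
linear constituent that is trivial on the subgroup. -/
theorem linear_constituent {A : Type u} [Group A] [Fintype A] (N : Subgroup A) [N.Normal]
    [Fintype N] (hcomm : ∀ a b : A, a * b * a⁻¹ * b⁻¹ ∈ N) (φ : IrrCharacter A)
    (hne : avgN N (φ : A → ℂ) ≠ 0) :
    ∃ l : A →* ℂˣ, (∀ n ∈ N, l n = 1) ∧ (φ : A → ℂ) = fun g => (l g : ℂ) := by
  obtain ⟨hker, -⟩ := (avgN_irr N φ.2).resolve_left fun h => hne h.2
  obtain ⟨ψ, hψ, hψe⟩ := IsIrr.exists_factor_quotient φ.2 N (fun n hn => hker ⟨n, hn⟩)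
  have hab : ∀ a b : A ⧸ N, a * b = b * a := by
    intro a b
    induction a using QuotientGroup.induction_on with
    | _ a =>
      induction b using QuotientGroup.induction_on with
      | _ b =>
        rw [← mul_inv_eq_iff_eq_mul, ← mul_inv_eq_one]
        exact (QuotientGroup.eq_one_iff _).2 (hcomm a b)
  have h1 : (φ : A → ℂ) 1 = 1 := by
    rw [← hψe 1]
    exact IsIrr.one_of_comm hab hψ
  obtain ⟨l, hl⟩ := linearHom_of_isCharacter (IsIrr.isCharacter φ.2) h1
  refine ⟨l, fun n hn => Units.ext ?_, hl⟩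
  rw [Units.val_one, ← h1, ← hker ⟨n, hn⟩, hl]

variable {H : Type u} [Group H] [Fintype H] {Z : Subgroup H} [Z.Normal] [Fintype Z]
  {χ : H → ℂ} {θ : Z → ℂ} {e : ℕ}

/-- The restriction to `Z` of a character over `θ`. -/
theorem res_over (d : Data Z χ θ e) {M : Subgroup H} [Fintype M] [Fintype (Z.subgroupOf M)]
    (hZM : Z ≤ M) {ψ : M → ℂ} (hψ : IsIrrCharacter M ψ) {r : ℕ} (hr : ψ 1 = (r : ℂ) * θ 1)
    (hov : classInner (fun z : Z => ψ ⟨(z : H), hZM z.2⟩) θ ≠ 0) :
    (fun n : Z.subgroupOf M => ψ n) =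
      (r : ℂ) • fun n : Z.subgroupOf M => θ ⟨((n : M) : H), n.2⟩ := by
  classical
  haveI : (Z.subgroupOf M).Normal := Subgroup.Normal.subgroupOf inferInstance _
  set θM : Z.subgroupOf M → ℂ := fun n => θ ⟨((n : M) : H), n.2⟩ with hθM
  have hθMi : IsIrrCharacter (Z.subgroupOf M) θM :=
    IsIrr.comp_mulEquiv (Subgroup.subgroupOfEquivOfLe hZM) d.hθ
  have hov' : classInner (fun n : Z.subgroupOf M => ψ n) θM ≠ 0 :=
    (Corr.classInner_subgroupOf Z hZM (fun z : Z => ψ ⟨(z : H), hZM z.2⟩) θ).symm ▸ hov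
  have hinv : inertia (Z.subgroupOf M) θM = ⊤ := eq_top_iff.2 fun t _ => by
    rw [mem_inertia]
    funext n
    exact congrFun (d.conj_eq (t : H)) ⟨((n : M) : H), n.2⟩
  have horb : conjOrbit (Z.subgroupOf M) θM = {θM} := Finset.eq_singleton_iff_unique_mem.2
    ⟨(mem_conjOrbit _).2 ⟨1, conjN_one _ _⟩, fun θ' hθ' => by
      obtain ⟨g, rfl⟩ := (mem_conjOrbit _).1 hθ'
      exact (mem_inertia _).1 (hinv ▸ Subgroup.mem_top g)⟩
  have hcl := clifford (Z.subgroupOf M) hψ hθMi hov'
  rw [horb, Finset.sum_singleton] at hcl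
  have h1 := congrFun hcl 1
  have hθ1 : θM 1 = θ 1 := congrArg θ (Subtype.ext rfl)
  simp only [Subgroup.coe_one, Pi.smul_apply, smul_eq_mul] at h1
  rw [hr, hθ1] at h1
  rw [hcl, mul_right_cancel₀ (IsIrr.one_ne_zero d.hθ) h1]

theorem theta_irr (d : Data Z χ θ e) {M : Subgroup H} (hZM : Z ≤ M) :
    IsIrrCharacter (Z.subgroupOf M) (fun n : Z.subgroupOf M => θ ⟨((n : M) : H), n.2⟩) :=
  IsIrr.comp_mulEquiv (Subgroup.subgroupOfEquivOfLe hZM) d.hθ

theorem lin_inner {M : Subgroup H} [Fintype M] [Fintype (Z.subgroupOf M)] {l : M →* ℂˣ}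
    (hl : ∀ n ∈ Z.subgroupOf M, l n = 1) (f g : M → ℂ) :
    classInner (avgN (Z.subgroupOf M) (f * fun x => conj (g x))) (fun x => (l x : ℂ)) =
      classInner f (fun x => (l x : ℂ) * g x) := by
  haveI : (Z.subgroupOf M).Normal := Subgroup.Normal.subgroupOf inferInstance _
  have e : avgN (Z.subgroupOf M) (fun x => (l x : ℂ)) = fun x => (l x : ℂ) := by
    funext x
    simp only [avgN, map_mul, hl _ (SetLike.coe_mem _), one_mul, Finset.sum_const,
      Finset.card_univ, nsmul_eq_mul, ← Nat.card_eq_fintype_card]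
    rw [inv_mul_cancel_left₀ (Nat.cast_ne_zero.2 Nat.card_pos.ne')]
  rw [classInner_avgN, e]
  simp only [classInner, Pi.mul_apply, map_mul]
  refine congrArg _ (Finset.sum_congr rfl fun x _ => ?_)
  ring

/-- Two characters over `θ` differ by a linear character. -/
theorem exists_linear_over (d : Data Z χ θ e) {M : Subgroup H} [Fintype M] (hZM : Z ≤ M)
    (hcomm : ∀ a b : M, a * b * a⁻¹ * b⁻¹ ∈ Z.subgroupOf M) {ψ ψ' : M → ℂ}
    (hψ : IsIrrCharacter M ψ) (hψ' : IsIrrCharacter M ψ') {r r' : ℕ}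
    (hr : ψ 1 = (r : ℂ) * θ 1) (hr' : ψ' 1 = (r' : ℂ) * θ 1)
    (hov : classInner (fun z : Z => ψ ⟨(z : H), hZM z.2⟩) θ ≠ 0)
    (hov' : classInner (fun z : Z => ψ' ⟨(z : H), hZM z.2⟩) θ ≠ 0) :
    ∃ l : M →* ℂˣ, (∀ x : M, (x : H) ∈ Z → l x = 1) ∧ ψ' = fun x => (l x : ℂ) * ψ x := by
  classical
  letI : Fintype (Z.subgroupOf M) := Fintype.ofFinite _
  haveI : (Z.subgroupOf M).Normal := Subgroup.Normal.subgroupOf inferInstance _
  set η := avgN (Z.subgroupOf M) (ψ' * fun x => conj (ψ x)) with hη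
  have hηc : IsCharacter M η := IsChar.avgN _
    (IsChar.mul (IsIrr.isCharacter hψ') (IsChar.conj (IsIrr.isCharacter hψ)))
  have hη1 : η 1 ≠ 0 := by
    have e : classInner (fun n : Z.subgroupOf M => ψ' n) (fun n : Z.subgroupOf M => ψ n) ≠ 0 := by
      rw [res_over d hZM hψ hr hov, res_over d hZM hψ' hr' hov', classInner_smul_left,
        classInner_smul_right, classInner_self_irr
          (theta_irr d hZM), mul_one, Complex.conj_natCast]
      refine mul_ne_zero (fun h => IsIrr.one_ne_zero hψ' (by rw [hr', h, zero_mul]))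
        (fun h => IsIrr.one_ne_zero hψ (by rw [hr, h, zero_mul]))
    rw [hη, avgN_one_eq]
    simpa [classInner] using e
  obtain ⟨φ, hφ⟩ := IsChar.exists_constituent' hηc hη1
  obtain ⟨l, hl, hφe⟩ := linear_constituent (Z.subgroupOf M) hcomm φ fun h => hφ (by
    rw [hη, classInner_avgN, h]
    simp [classInner])
  refine ⟨l, fun x hx => hl x hx, eq_of_constituent_irr hψ' (IsIrr.mul_linear hψ l) ?_⟩
  rw [← lin_inner hl, ← hφe]
  exact hφ

/-- Without linear symmetries the character is an extension. -/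
theorem one_of_free (d : Data Z χ θ e) {M : Subgroup H} [Fintype M] (hZM : Z ≤ M)
    (hcomm : ∀ a b : M, a * b * a⁻¹ * b⁻¹ ∈ Z.subgroupOf M) {ψ : M → ℂ}
    (hψ : IsIrrCharacter M ψ) {r : ℕ} (hr : ψ 1 = (r : ℂ) * θ 1)
    (hov : classInner (fun z : Z => ψ ⟨(z : H), hZM z.2⟩) θ ≠ 0)
    (hfree : ∀ l : M →* ℂˣ, (∀ x : M, (x : H) ∈ Z → l x = 1) →
      (∀ x, (l x : ℂ) * ψ x = ψ x) → l = 1) : r = 1 := by
  classical
  letI : Fintype (Z.subgroupOf M) := Fintype.ofFinite _
  haveI : (Z.subgroupOf M).Normal := Subgroup.Normal.subgroupOf inferInstance _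
  set η := avgN (Z.subgroupOf M) (ψ * fun x => conj (ψ x)) with hη
  have hηc : IsCharacter M η := IsChar.avgN _
    (IsChar.mul (IsIrr.isCharacter hψ) (IsChar.conj (IsIrr.isCharacter hψ)))
  obtain ⟨a, ha, hdec⟩ := IsChar.exists_decomp_inner hηc
  set one : IrrCharacter M := ⟨fun _ => 1, isIrr_one⟩
  have hoth : ∀ φ, φ ≠ one → a φ = 0 := by
    intro φ hφ
    by_contra h0
    have hne : classInner η (φ : M → ℂ) ≠ 0 := by rw [ha φ]; exact_mod_cast h0
    obtain ⟨l, hl, hφe⟩ := linear_constituent (Z.subgroupOf M) hcomm φ fun h => hne (by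
      rw [hη, classInner_avgN, h]
      simp [classInner])
    rw [hφe, hη, lin_inner hl] at hne
    have heq := eq_of_constituent_irr hψ (IsIrr.mul_linear hψ l) hne
    have hl1 := hfree l (fun x hx => hl x hx) fun x => (congrFun heq x).symm
    refine hφ (Subtype.ext ?_)
    rw [hφe, hl1]
    simp [one]
  have hone : (a one : ℂ) = 1 := by
    rw [← ha one, show (one : M → ℂ) = fun x => ((1 : M →* ℂˣ) x : ℂ) from by simp [one],
      hη, lin_inner (fun _ _ => rfl)]
    simp only [MonoidHom.one_apply, Units.val_one, one_mul]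
    exact classInner_self_irr hψ
  have hη1 : η 1 = 1 := by
    rw [congrFun hdec 1, sum_irr_apply, Finset.sum_eq_single one
      (fun φ _ hφ => by rw [hoth φ hφ]; simp) (by simp), hone, one_mul]
  have e : classInner (fun n : Z.subgroupOf M => ψ n) (fun n : Z.subgroupOf M => ψ n) = 1 := by
    rw [← hη1, hη, avgN_one_eq]
    simp [classInner]
  rw [res_over d hZM hψ hr hov, classInner_smul_left, classInner_smul_right,
    classInner_self_irr (theta_irr d hZM), mul_one,
    Complex.conj_natCast] at e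
  exact Nat.eq_one_of_mul_eq_one_right (n := r) (by exact_mod_cast e)

/-- A character over `θ` that vanishes outside `Z`. -/
theorem sq_of_vanish (d : Data Z χ θ e) {M : Subgroup H} [Fintype M] (hZM : Z ≤ M) {ψ : M → ℂ}
    (hψ : IsIrrCharacter M ψ) {r : ℕ} (hr : ψ 1 = (r : ℂ) * θ 1)
    (hov : classInner (fun z : Z => ψ ⟨(z : H), hZM z.2⟩) θ ≠ 0)
    (hv : ∀ x : M, (x : H) ∉ Z → ψ x = 0) : Z.relIndex M = r ^ 2 := by
  classical
  letI : Fintype (Z.subgroupOf M) := Fintype.ofFinite _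
  have h1 := classInner_self_irr hψ
  rw [classInner, inv_mul_eq_one₀ (Nat.cast_ne_zero.2 Nat.card_pos.ne')] at h1
  have h2 : ∑ x : M, ψ x * conj (ψ x) = ∑ n : Z.subgroupOf M, ψ n * conj (ψ n) := by
    refine (Fintype.sum_of_injective (fun n : Z.subgroupOf M => (n : M))
      Subtype.coe_injective _ _ (fun x hx => ?_) fun _ => rfl).symm
    rw [hv x fun hm => hx ⟨⟨x, hm⟩, rfl⟩, zero_mul]
  have hres := res_over d hZM hψ hr hov
  have h3 : ∑ n : Z.subgroupOf M, ψ n * conj (ψ n) =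
      ((r ^ 2 * Nat.card (Z.subgroupOf M) : ℕ) : ℂ) := by
    have h4 := classInner_self_irr (theta_irr d hZM)
    rw [classInner, inv_mul_eq_one₀ (Nat.cast_ne_zero.2 Nat.card_pos.ne')] at h4
    rw [Nat.cast_mul, h4, Finset.mul_sum]
    refine Finset.sum_congr rfl fun n _ => ?_
    have e : ψ n = (r : ℂ) * θ ⟨((n : M) : H), n.2⟩ := congrFun hres n
    rw [e, map_mul, Complex.conj_natCast]
    push_cast
    ring
  rw [h2, h3, ← (Z.subgroupOf M).card_mul_index] at h1
  have h5 : Nat.card (Z.subgroupOf M) * (Z.subgroupOf M).index =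
      r ^ 2 * Nat.card (Z.subgroupOf M) := by exact_mod_cast h1
  rw [mul_comm (r ^ 2)] at h5
  exact Nat.eq_of_mul_eq_mul_left Nat.card_pos h5

end Cfsg.Agent.Grp.CentralType
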