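import Cfsg.Agent.Lib.Grp.CentralType.Linear
import Cfsg.Agent.Lib.Grp.CentralType.Good
import Mathlib.GroupTheory.Solvable
import Mathlib.GroupTheory.Abelianization.Defs

/-!
An abelian minimal normal subgroup in the quotient of a fully ramified group with small
nonabelian Sylow subgroups: the quotient is solvable by induction.
-/

open scoped ComplexConjugate commutatorElement

namespace Cfsg.Agent.Grp.CentralType

open Cfsg Cfsg.Agent.Char Cfsg.Agent.Char.RamCompl Subgroup

set_option linter.unusedSectionVars false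
set_option linter.style.haveILetI false

universe u

/-- The Sylow subgroups of the quotient are abelian, unless small. -/
def Small {H : Type u} [Group H] (Z : Subgroup H) [Z.Normal] : Prop :=
  ∀ p : ℕ, p.Prime → p ^ 6 ∣ Z.index → ∀ P : Sylow p (H ⧸ Z), IsMulCommutative P

/-- A minimal abelian normal subgroup has prime exponent. -/
theorem exp_of_min {G : Type u} [Group G] [Finite G] {A : Subgroup G} [hAn : A.Normal]
    (hA : IsMulCommutative A) (hA1 : A ≠ ⊥)
    (hmin : ∀ B : Subgroup G, B.Normal → B ≤ A → B = ⊥ ∨ B = A) :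
    ∃ r k : ℕ, r.Prime ∧ 1 ≤ k ∧ Nat.card A = r ^ k ∧ ∀ a ∈ A, a ^ r = 1 := by
  have hc1 : Nat.card A ≠ 1 := fun h => hA1 (card_eq_one.1 h)
  obtain ⟨r, hr, hrd⟩ := Nat.exists_prime_and_dvd hc1
  haveI : Fact r.Prime := ⟨hr⟩
  let Ω : Subgroup G :=
    { carrier := {a | a ∈ A ∧ a ^ r = 1}
      one_mem' := ⟨A.one_mem, one_pow r⟩
      mul_mem' := fun {a b} ha hb => ⟨A.mul_mem ha.1 hb.1, by
        have hab : Commute a b := congrArg Subtype.val (hA.1.1 ⟨a, ha.1⟩ ⟨b, hb.1⟩)
        rw [hab.mul_pow, ha.2, hb.2, one_mul]⟩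
      inv_mem' := fun {a} ha => ⟨A.inv_mem ha.1, by rw [inv_pow, ha.2, inv_one]⟩ }
  have hΩn : Ω.Normal := ⟨fun a ha g => ⟨hAn.conj_mem a ha.1 g, by rw [conj_pow, ha.2]; group⟩⟩
  obtain ⟨⟨a, haA⟩, ha⟩ := exists_prime_orderOf_dvd_card' (G := A) r hrd
  rw [orderOf_mk] at ha
  have haΩ : a ∈ Ω := ⟨haA, by rw [← ha, pow_orderOf_eq_one]⟩
  have hΩ : Ω = A := (hmin Ω hΩn fun x hx => hx.1).resolve_left fun h => by
    rw [h, mem_bot] at haΩ
    rw [haΩ, orderOf_one] at ha
    exact hr.ne_one ha.symm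
  have hexp : ∀ x ∈ A, x ^ r = 1 := fun x hx => (hΩ.symm ▸ hx : x ∈ Ω).2
  have hpg : IsPGroup r A := fun x => ⟨1, Subtype.ext (by simpa using hexp x x.2)⟩
  obtain ⟨k, hk⟩ := IsPGroup.iff_card.1 hpg
  refine ⟨r, k, hr, ?_, hk, hexp⟩
  rcases k with _ | k
  · exact absurd (by simpa using hk) hc1
  · omega

/-- The automorphism group of a group of order `r ^ 2` and exponent `r` has no subgroup of order
`r ^ 2`. -/
theorem not_sq_dvd_aut {A : Type u} [Group A] [Finite A] {r : ℕ} (hr : r.Prime)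
    (hcard : Nat.card A = r ^ 2) (hexp : ∀ a : A, a ^ r = 1) (B : Subgroup (MulAut A)) :
    ¬ r ^ 2 ∣ Nat.card B := by
  haveI : Fact r.Prime := ⟨hr⟩
  intro hd
  haveI : Finite (MulAut A) :=
    Finite.of_injective (fun f : MulAut A => (f : A → A)) DFunLike.coe_injective
  obtain ⟨P, hP⟩ := Sylow.exists_subgroup_card_pow_prime r hd
  have hPp : IsPGroup r P := IsPGroup.of_card hP
  let act : MulAction P A :=
    { smul := fun f a => ((f : B) : MulAut A) a
      one_smul := fun _ => rfl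
      mul_smul := fun _ _ _ => rfl }
  letI := act
  have hsm : ∀ (f : P) (a : A), f • a = ((f : B) : MulAut A) a := fun _ _ => rfl
  obtain ⟨a0, ha0, hne⟩ := hPp.exists_fixed_point_of_prime_dvd_card_of_fixed_point A
    (hcard ▸ dvd_pow_self r two_ne_zero)
    (show (1 : A) ∈ MulAction.fixedPoints P A from fun f => by rw [hsm, map_one])
  have hord : orderOf a0 = r :=
    ((Nat.dvd_prime hr).1 (orderOf_dvd_of_pow_eq_one (hexp a0))).resolve_left
      fun h => hne (orderOf_eq_one_iff.1 h).symm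
  obtain ⟨b, hb⟩ : ∃ b, b ∉ zpowers a0 := by
    by_contra hall
    push Not at hall
    have htop : zpowers a0 = ⊤ := eq_top_iff.2 fun x _ => hall x
    have := congrArg (fun K : Subgroup A => Nat.card K) htop
    simp only [Nat.card_zpowers, card_top, hord, hcard] at this
    nlinarith [hr.two_le]
  set K := zpowers a0 ⊔ zpowers b
  have hKtop : K = ⊤ := by
    refine eq_top_of_card_eq _ ?_
    have h1 : Nat.card K ∣ r ^ 2 := hcard ▸ card_subgroup_dvd_card K
    obtain ⟨j, hj, hje⟩ := (Nat.dvd_prime_pow hr).1 h1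
    have h2 : zpowers a0 < K := lt_of_le_of_ne le_sup_left fun h =>
      hb (h.symm ▸ (le_sup_right : zpowers b ≤ K) (mem_zpowers b))
    have h4 : r < Nat.card K := by
      rw [← hord, ← Nat.card_zpowers]
      refine lt_of_le_of_ne (card_le_of_le h2.le) fun h => ?_
      exact h2.ne (eq_of_le_of_card_ge h2.le h.ge)
    interval_cases j
    · rw [pow_zero] at hje; have := hr.two_le; omega
    · rw [pow_one] at hje; omega
    · rw [hje, hcard]
  have hstab : MulAction.stabilizer P b = ⊥ := (eq_bot_iff_forall _).2 fun f hf => by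
    refine Subtype.ext (Subtype.ext (MulEquiv.ext fun a => ?_))
    let E : Subgroup A := ((f : B) : MulAut A).toMonoidHom.eqLocus (MonoidHom.id A)
    have hKE : K ≤ E := sup_le (zpowers_le.2 ((hsm f a0).symm.trans (ha0 f)))
      (zpowers_le.2 ((hsm f b).symm.trans (MulAction.mem_stabilizer_iff.1 hf)))
    exact hKE (hKtop ▸ mem_top a)
  have hcount := MulAction.index_stabilizer P b
  rw [hstab, index_bot, hP] at hcount
  have hsub : MulAction.orbit P b ⊆ {x : A | x ≠ 1} := by
    rintro x ⟨f, rfl⟩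
    show f • b ≠ 1
    rw [hsm]
    intro h
    exact hb ((map_eq_one_iff _ (((f : B) : MulAut A)).injective).1 h ▸ one_mem _)
  have hlt : (MulAction.orbit P b).ncard < Nat.card A := by
    rw [← Set.ncard_univ]
    refine Set.ncard_lt_ncard (Set.ssubset_univ_iff.2 fun h => ?_) Set.finite_univ
    exact hsub (h ▸ Set.mem_univ (1 : A)) rfl
  rw [← hcount, hcard] at hlt
  exact lt_irrefl _ hlt

variable {H : Type u} [Group H] [Fintype H] {Z : Subgroup H} [Z.Normal] [Fintype Z]
  {χ : H → ℂ} {θ : Z → ℂ} {e : ℕ}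

open scoped Classical in
/-- The step at an abelian minimal normal subgroup of the quotient. -/
theorem radical_step (d : Data Z χ θ e) (hsmall : Small Z) {A : Subgroup (H ⧸ Z)} [hAn : A.Normal]
    (hA : IsMulCommutative A) (hA1 : A ≠ ⊥)
    (hmin : ∀ B : Subgroup (H ⧸ Z), B.Normal → B ≤ A → B = ⊥ ∨ B = A)
    (IH : ∀ (T : Type u) [Group T] [Fintype T] (Z' : Subgroup T) [Z'.Normal] [Fintype Z']
      (χ' : T → ℂ) (θ' : Z' → ℂ) (e' : ℕ), Data Z' χ' θ' e' → Z'.index < Z.index → Small Z' →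
      Group.IsSolvable (T ⧸ Z')) :
    Group.IsSolvable (H ⧸ Z) := by
  obtain ⟨p, k, hp, hk1, hcardA, hexp⟩ := exp_of_min hA hA1 hmin
  haveI : Fact p.Prime := ⟨hp⟩
  set π := QuotientGroup.mk' Z with hπ
  have hπs : Function.Surjective π := QuotientGroup.mk'_surjective Z
  set M := A.comap π with hMdef
  haveI : M.Normal := inferInstanceAs (A.comap π).Normal
  have hZM : Z ≤ M := fun z hz => by
    show π z ∈ A
    rw [show π z = 1 from (QuotientGroup.eq_one_iff z).2 hz]
    exact one_mem A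
  letI : Fintype M := Fintype.ofFinite _
  letI : Fintype (Z.subgroupOf M) := Fintype.ofFinite _
  have hrelA : Z.relIndex M = Nat.card A := by
    have h := relIndex_ker M π
    rwa [QuotientGroup.ker_mk', hMdef, map_comap_eq_self_of_surjective hπs] at h
  have hcomm : ∀ a b : M, a * b * a⁻¹ * b⁻¹ ∈ Z.subgroupOf M := by
    intro a b
    rw [mem_subgroupOf, ← QuotientGroup.eq_one_iff]
    have h : π a * π b = π b * π a := congrArg Subtype.val (hA.1.1 ⟨_, a.2⟩ ⟨_, b.2⟩)
    simp only [coe_mul, coe_inv, QuotientGroup.mk_mul, QuotientGroup.mk_inv]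
    show π a * π b * (π a)⁻¹ * (π b)⁻¹ = 1
    rw [h, mul_inv_cancel_right, mul_inv_cancel]
  -- the orbit below `χ`
  obtain ⟨ζ, r, f, hζ, hζ1, hcount, hdeg, -, hconj⟩ :=
    orbit_data Z M hZM d.hθ d.inertia_top e d.hχ d.hres fun ω hω hne => d.eq_of_over hω hne
  obtain ⟨ω0, hω0⟩ := IsChar.exists_constituent' (IsChar.res (IsIrr.isCharacter d.hχ) M)
    (show χ ((1 : M) : H) ≠ 0 from IsIrr.one_ne_zero d.hχ)
  have hov0 := d.over_of_constituent hZM ω0.2 hω0
  obtain ⟨q, hq⟩ := hconj ω0 ω0.2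
    ((Corr.classInner_subgroupOf Z hZM (fun z : Z => (ω0 : M → ℂ) ⟨(z : H), hZM z.2⟩) θ).symm ▸ hov0)
  have hne : classInner (fun m : M => χ m) ζ ≠ 0 := by
    rw [← hq, classInner_res_conjN M (IsIrr.classFun d.hχ)] at hω0
    exact hω0
  have hov := d.over_of_constituent hZM hζ hne
  have hr0 : r ≠ 0 := fun h => IsIrr.one_ne_zero hζ (by rw [hζ1, h, Nat.cast_zero, zero_mul])
  set T := inertia M ζ with hT
  have hMT : M ≤ T := le_inertia M (IsIrr.classFun hζ)
  letI : Fintype T := Fintype.ofFinite _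
  obtain ⟨φ, hφ, hind, hφm⟩ := Corr.exists_correspondent M hζ hT hMT d.hχ hne
  haveI : (M.subgroupOf T).Normal := Subgroup.Normal.subgroupOf inferInstance _
  letI : Fintype (M.subgroupOf T) := Fintype.ofFinite _
  set ζT : M.subgroupOf T → ℂ := fun m => ζ ⟨((m : T) : H), m.2⟩ with hζT
  have hζTi : IsIrrCharacter (M.subgroupOf T) ζT :=
    IsIrr.comp_mulEquiv (Subgroup.subgroupOfEquivOfLe hMT) hζ
  have hinvT : inertia (M.subgroupOf T) ζT = ⊤ := eq_top_iff.2 fun t _ => by
    rw [mem_inertia]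
    funext m
    exact congrFun ((mem_inertia M).1 t.2) ⟨((m : T) : H), m.2⟩
  have hneT : classInner (fun m : M.subgroupOf T => φ m) ζT ≠ 0 := by
    rw [show classInner (fun m : M.subgroupOf T => φ m) ζT =
      classInner (fun m : M => φ ⟨(m : H), hMT m.2⟩) ζ from
        Corr.classInner_subgroupOf M hMT (fun m : M => φ ⟨(m : H), hMT m.2⟩) ζ, hφm]
    exact hne
  have hφ1 : φ 1 = (f : ℂ) * ζT 1 := by
    have h1 : χ 1 = (T.index : ℂ) * φ 1 := by rw [← hind, indFun_one_eq]
    have h2 : χ 1 = (e : ℂ) * θ 1 := by simpa using d.hres 1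
    have e1 : ζT 1 = (r : ℂ) * θ 1 := by
      rw [← hζ1]
      exact congrArg ζ (Subtype.ext rfl)
    rw [e1]
    refine mul_left_cancel₀ (Nat.cast_ne_zero.2 (index_ne_zero_of_finite (H := T))) ?_
    rw [← h1, h2, ← hdeg, hT]
    push_cast
    ring
  have hresT : ∀ m : M.subgroupOf T, φ m = (f : ℂ) * ζT m := by
    have horb : conjOrbit (M.subgroupOf T) ζT = {ζT} := Finset.eq_singleton_iff_unique_mem.2
      ⟨(mem_conjOrbit _).2 ⟨1, conjN_one _ _⟩, fun θ' hθ' => by
        obtain ⟨g, rfl⟩ := (mem_conjOrbit _).1 hθ'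
        exact (mem_inertia _).1 (hinvT ▸ mem_top g)⟩
    have hcl := clifford (M.subgroupOf T) hφ hζTi hneT
    rw [horb, Finset.sum_singleton] at hcl
    have h1 := congrFun hcl 1
    simp only [coe_one, Pi.smul_apply, smul_eq_mul] at h1
    rw [hφ1] at h1
    intro m
    rw [congrFun hcl m, Pi.smul_apply, smul_eq_mul, ← mul_right_cancel₀ (IsIrr.one_ne_zero hζTi) h1]
  have hchain : T.index * M.relIndex T * Z.relIndex M = Z.index := by
    rw [← relIndex_mul_index hZM, ← relIndex_mul_index hMT]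
    ring
  have hi0 : T.index ≠ 0 := index_ne_zero_of_finite
  have hf2 : f ^ 2 = M.relIndex T := by
    have h1 := hchain
    rw [← hcount, ← d.he, ← hdeg] at h1
    refine mul_left_cancel₀ (mul_ne_zero (pow_ne_zero 2 hi0) (pow_ne_zero 2 hr0)) ?_
    linear_combination -h1
  have hA2 : 2 ≤ Nat.card A := by
    rw [hcardA]
    exact hp.two_le.trans (Nat.le_self_pow (by omega) p)
  have hsolT : Group.IsSolvable (T ⧸ M.subgroupOf T) := by
    refine IH T (M.subgroupOf T) φ ζT f ⟨hφ, hζTi, hf2, hresT⟩ ?_ ?_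
    · show M.relIndex T < Z.index
      rw [← hchain, hrelA]
      have hx : M.relIndex T ≠ 0 := by
        rw [relIndex]; exact index_ne_zero_of_finite
      calc M.relIndex T < M.relIndex T * 2 := by omega
        _ ≤ T.index * M.relIndex T * Nat.card A :=
          Nat.mul_le_mul (Nat.le_mul_of_pos_left _ (Nat.pos_of_ne_zero hi0)) hA2
    · intro s hs h6 P
      haveI : Fact s.Prime := ⟨hs⟩
      obtain ⟨Q, rfl⟩ := Sylow.mapSurjective_surjective (QuotientGroup.mk'_surjective
        (M.subgroupOf T)) s P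
      obtain ⟨R, hR⟩ := (Q.isPGroup'.map (π.comp T.subtype)).exists_le_sylow
      have hdvd : s ^ 6 ∣ Z.index := h6.trans ⟨T.index * Z.relIndex M, by
        rw [← hchain]
        show _ = M.relIndex T * _
        ring⟩
      refine ⟨⟨fun a b => Subtype.ext ?_⟩⟩
      obtain ⟨a', ha', hae⟩ : (a : T ⧸ M.subgroupOf T) ∈
          (Q : Subgroup T).map (QuotientGroup.mk' (M.subgroupOf T)) := a.2
      obtain ⟨b', hb', hbe⟩ : (b : T ⧸ M.subgroupOf T) ∈
          (Q : Subgroup T).map (QuotientGroup.mk' (M.subgroupOf T)) := b.2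
      have hc := congrArg Subtype.val ((hsmall s hs hdvd R).1.1 ⟨_, hR (mem_map_of_mem _ ha')⟩
        ⟨_, hR (mem_map_of_mem _ hb')⟩)
      simp only [coe_mul] at hc
      rw [coe_mul, coe_mul, ← hae, ← hbe, ← map_mul, ← map_mul, QuotientGroup.mk'_apply,
        QuotientGroup.mk'_apply, QuotientGroup.eq, mem_subgroupOf]
      refine hZM (QuotientGroup.eq.1 ?_)
      simpa [hπ] using hc
  -- subgroups over `A` inside the image of `T`
  set Tb := T.map π with hTb
  have hATb : A ≤ Tb := by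
    rw [hTb, ← map_comap_eq_self_of_surjective hπs A]
    exact map_mono hMT
  have hsolA : Group.IsSolvable A := Group.isSolvable_of_comm hA.1.1
  haveI := hsolA
  have hsolTb : Group.IsSolvable Tb := by
    haveI := hsolT
    let q : T ⧸ M.subgroupOf T →* (H ⧸ Z) ⧸ A := QuotientGroup.lift _
      ((QuotientGroup.mk' A).comp (π.comp T.subtype)) (fun t ht => by
        rw [MonoidHom.mem_ker]
        exact (QuotientGroup.eq_one_iff _).2 ht)
    haveI : Group.IsSolvable q.range := Group.isSolvable_of_surjective q.rangeRestrict_surjective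
    let g : Tb →* q.range := ((QuotientGroup.mk' A).comp Tb.subtype).codRestrict q.range fun x => by
      obtain ⟨t, ht, htx⟩ := x.2
      exact ⟨QuotientGroup.mk ⟨t, ht⟩, congrArg (QuotientGroup.mk' A) htx⟩
    refine Group.isSolvable_of_ker_le_range (Subgroup.inclusion hATb) g fun x hx => ?_
    have h1 : QuotientGroup.mk' A (x : H ⧸ Z) = 1 := congrArg Subtype.val hx
    exact ⟨⟨x, (QuotientGroup.eq_one_iff _).1 h1⟩, rfl⟩
  have hdone : T = ⊤ → Group.IsSolvable (H ⧸ Z) := fun h => by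
    haveI := hsolTb
    exact Group.isSolvable_of_surjective (f := Tb.subtype) fun x => by
      obtain ⟨y, rfl⟩ := hπs x
      exact ⟨⟨π y, mem_map_of_mem π (h ▸ mem_top y)⟩, rfl⟩
  have hact : ∀ (h : H) (l : M →* ℂˣ) (ψ : M → ℂ),
      conjN M h (fun m => (l m : ℂ) * ψ m) =
        fun m => ((l.comp (conjEquivN M h).toMonoidHom) m : ℂ) * conjN M h ψ m := fun h l ψ =>
    funext fun m => rfl
  have hother : ∀ g : H, ∃ a : M →* ℂˣ, (∀ x : M, (x : H) ∈ Z → a x = 1) ∧
      conjN M g ζ = fun m => (a m : ℂ) * ζ m := by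
    intro g
    refine exists_linear_over d hZM hcomm hζ (IsIrr.conjN M hζ g) (r := r) (r' := r) hζ1 ?_ hov ?_
    · rw [← hζ1, conjN_apply]
      exact congrArg ζ (Subtype.ext (by simp))
    · refine d.over_of_constituent hZM (IsIrr.conjN M hζ g) ?_
      rw [classInner_res_conjN M (IsIrr.classFun d.hχ)]
      exact hne
  -- a character with linear symmetries vanishes outside `Z`
  by_cases hfree : ∀ l : M →* ℂˣ, (∀ x : M, (x : H) ∈ Z → l x = 1) →
      (∀ x, (l x : ℂ) * ζ x = ζ x) → l = 1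
  swap
  · apply hdone
    push Not at hfree
    obtain ⟨l0, hl0Z, hl0, hl01⟩ := hfree
    let K : Subgroup H :=
      { carrier := {m | ∃ hm : m ∈ M, ∀ l : M →* ℂˣ, (∀ x : M, (x : H) ∈ Z → l x = 1) →
          (∀ x, (l x : ℂ) * ζ x = ζ x) → l ⟨m, hm⟩ = 1}
        one_mem' := ⟨one_mem M, fun l _ _ => map_one l⟩
        mul_mem' := fun {a b} ⟨ha, ha'⟩ ⟨hb, hb'⟩ => ⟨M.mul_mem ha hb, fun l h1 h2 => by
          rw [show (⟨a * b, M.mul_mem ha hb⟩ : M) = ⟨a, ha⟩ * ⟨b, hb⟩ from rfl, map_mul,
            ha' l h1 h2, hb' l h1 h2, one_mul]⟩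
        inv_mem' := fun {a} ⟨ha, ha'⟩ => ⟨M.inv_mem ha, fun l h1 h2 => by
          rw [show (⟨a⁻¹, M.inv_mem ha⟩ : M) = ⟨a, ha⟩⁻¹ from rfl, map_inv, ha' l h1 h2, inv_one]⟩ }
    haveI : K.Normal := ⟨fun m hmK h => by
      obtain ⟨hm, hm'⟩ := hmK
      refine ⟨Subgroup.Normal.conj_mem inferInstance m hm h, fun l h1 h2 => ?_⟩
      have hl' : (l.comp (conjEquivN M h).toMonoidHom) ⟨m, hm⟩ = 1 := by
        refine hm' _ (fun x hx => h1 _ (by
          show h * (x : H) * h⁻¹ ∈ Z
          exact Subgroup.Normal.conj_mem inferInstance _ hx h)) fun x => ?_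
        obtain ⟨a, -, ha⟩ := hother h
        have e1 := congrFun (hact h l ζ) x
        rw [show (fun m => (l m : ℂ) * ζ m) = ζ from funext h2, ha] at e1
        refine mul_left_cancel₀ (a x).ne_zero ?_
        linear_combination -e1
      exact hl'⟩
    have hKn : (K.map π).Normal := Subgroup.Normal.map inferInstance π hπs
    rcases hmin _ hKn (fun y hy => by obtain ⟨m, ⟨hm, -⟩, rfl⟩ := hy; exact hm) with hK | hK
    · have hv : ∀ x : M, (x : H) ∉ Z → ζ x = 0 := by
        intro x hxZ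
        by_contra hx0
        refine hxZ ((QuotientGroup.eq_one_iff _).1 ?_)
        have : π x ∈ K.map π := mem_map_of_mem π ⟨x.2, fun l h1 h2 => Units.ext
          (by simpa [hx0] using h2 x)⟩
        rwa [hK, mem_bot] at this
      have h1 := sq_of_vanish d hZM hζ hζ1 hov hv
      rw [← hcount] at h1
      have : (inertia M ζ).index = 1 :=
        mul_right_cancel₀ (pow_ne_zero 2 hr0) (h1.trans (one_mul _).symm)
      rw [hT]
      exact index_eq_one.1 this
    · exfalso
      refine hl01 (MonoidHom.ext fun x => ?_)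
      obtain ⟨m, ⟨hm, hm'⟩, hmx⟩ : π x ∈ K.map π := hK.symm ▸ x.2
      rw [← lin_congr l0 hl0Z ⟨m, hm⟩ x hmx, hm' l0 hl0Z hl0]
      rfl
  -- the free case
  have hr1 : r = 1 := one_of_free d hZM hcomm hζ hζ1 hov hfree
  have hiA : T.index = Nat.card A := by
    rw [← hrelA, ← hcount, hr1, hT]
    ring
  have huniq : ∀ a b : M →* ℂˣ, (∀ x : M, (x : H) ∈ Z → a x = 1) →
      (∀ x : M, (x : H) ∈ Z → b x = 1) → (∀ x, (a x : ℂ) * ζ x = (b x : ℂ) * ζ x) → a = b := by
    intro a b ha hb h
    refine inv_mul_eq_one.1 (hfree (a⁻¹ * b) (fun x hx => by simp [ha x hx, hb x hx]) fun x => ?_)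
    simp only [MonoidHom.mul_apply, MonoidHom.inv_apply, Units.val_mul, mul_assoc, ← h x]
    rw [← mul_assoc, ← Units.val_mul, inv_mul_cancel, Units.val_one, one_mul]
  choose tw htwZ htw using hother
  set Cb : Subgroup (H ⧸ Z) := centralizer (A : Set (H ⧸ Z)) with hCb
  set C : Subgroup H := Cb.comap π with hC
  have hCfix : ∀ u ∈ C, ∀ (l : M →* ℂˣ), (∀ x : M, (x : H) ∈ Z → l x = 1) →
      ∀ x : M, l (conjEquivN M u x) = l x := by
    intro u hu l hl x
    refine lin_congr l hl _ _ ?_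
    show π (u * x * u⁻¹) = π x
    have h : π x * π u = π u * π x := mem_centralizer_iff.1 hu _ x.2
    rw [map_mul, map_mul, map_inv, ← h, mul_inv_cancel_right]
  have hmul : ∀ u v : C, tw ((u * v : C) : H) = tw u * tw v := by
    intro u v
    refine huniq _ _ (htwZ _) (fun x hx => by
      rw [MonoidHom.mul_apply, htwZ _ x hx, htwZ _ x hx, one_mul]) fun x => ?_
    rw [← congrFun (htw _) x, coe_mul, conjN_mul, htw, hact, htw]
    show ((tw u (conjEquivN M v x) : ℂˣ) : ℂ) * ((tw v x : ℂˣ) * ζ x) = _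
    rw [hCfix v v.2 _ (htwZ _) x, MonoidHom.mul_apply, Units.val_mul, mul_assoc]
  let τ : C →* (M →* ℂˣ) := MonoidHom.mk' (fun u => tw u) hmul
  have hker : τ.ker = T.subgroupOf C := by
    ext u
    rw [MonoidHom.mem_ker, mem_subgroupOf, hT, mem_inertia]
    refine ⟨fun h => ?_, fun h => ?_⟩
    · funext x
      rw [htw]
      show ((τ u x : ℂˣ) : ℂ) * ζ x = ζ x
      rw [h, MonoidHom.one_apply, Units.val_one, one_mul]
    · refine huniq _ _ (htwZ _) (fun _ _ => rfl) fun x => ?_
      show ((tw u x : ℂˣ) : ℂ) * ζ x = _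
      rw [← congrFun (htw _) x, h, MonoidHom.one_apply, Units.val_one, one_mul]
  let K : Subgroup H :=
    { carrier := {m | ∃ hm : m ∈ M, ∀ u : C, τ u ⟨m, hm⟩ = 1}
      one_mem' := ⟨one_mem M, fun u => map_one (τ u)⟩
      mul_mem' := fun {a b} ⟨ha, ha'⟩ ⟨hb, hb'⟩ => ⟨M.mul_mem ha hb, fun u => by
        rw [show (⟨a * b, M.mul_mem ha hb⟩ : M) = ⟨a, ha⟩ * ⟨b, hb⟩ from rfl, map_mul,
          ha' u, hb' u, one_mul]⟩
      inv_mem' := fun {a} ⟨ha, ha'⟩ => ⟨M.inv_mem ha, fun u => by
        rw [show (⟨a⁻¹, M.inv_mem ha⟩ : M) = ⟨a, ha⟩⁻¹ from rfl, map_inv, ha' u, inv_one]⟩ }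
  haveI : C.Normal := inferInstanceAs (Cb.comap π).Normal
  have hKN : K.Normal := ⟨fun m hmK h => by
    obtain ⟨hm, hm'⟩ := hmK
    refine ⟨Subgroup.Normal.conj_mem inferInstance m hm h, fun u => ?_⟩
    have hu' : h⁻¹ * (u : H) * h ∈ C := by
      simpa using Subgroup.Normal.conj_mem inferInstance _ u.2 h⁻¹
    have e1 : (tw u).comp (conjEquivN M h).toMonoidHom = tw (h⁻¹ * (u : H) * h) := by
      refine huniq _ _ (fun x hx => htwZ _ _ (Subgroup.Normal.conj_mem inferInstance _ hx h))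
        (htwZ _) fun x => ?_
      refine mul_left_cancel₀ (tw h x).ne_zero ?_
      have a1 := congrFun (hact h (tw u) ζ) x
      rw [← htw, ← conjN_mul, show (u : H) * h = h * (h⁻¹ * (u : H) * h) by group, conjN_mul,
        htw h, hact, htw] at a1
      show _ = ((tw h x : ℂˣ) : ℂ) * _
      change ((tw h (conjEquivN M (h⁻¹ * (u : H) * h) x) : ℂˣ) : ℂ) * _ = _ at a1
      rw [hCfix _ hu' _ (htwZ h) x] at a1
      linear_combination -a1
    exact (DFunLike.congr_fun e1 ⟨m, hm⟩).trans (hm' ⟨_, hu'⟩)⟩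
  have hKn : (K.map π).Normal := hKN.map π hπs
  haveI := hsolTb
  rcases hmin _ hKn (fun y hy => by obtain ⟨m, ⟨hm, -⟩, rfl⟩ := hy; exact hm) with hK | hK
  · -- the centralizer of `A` is transitive
    have hle : Nat.card A ≤ T.relIndex C := by
      let Φ : M →* (τ.range →* ℂˣ) :=
        { toFun := fun m => MonoidHom.mk' (fun w : τ.range => (w : M →* ℂˣ) m) fun a b => rfl
          map_one' := MonoidHom.ext fun w => map_one (w : M →* ℂˣ)
          map_mul' := fun a b => MonoidHom.ext fun w => map_mul (w : M →* ℂˣ) a b }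
      have hΦ : Φ.ker ≤ Z.subgroupOf M := fun m hm => by
        rw [mem_subgroupOf, ← QuotientGroup.eq_one_iff]
        have : π m ∈ K.map π := mem_map_of_mem π ⟨m.2, fun u =>
          DFunLike.congr_fun (MonoidHom.mem_ker.1 hm) ⟨τ u, u, rfl⟩⟩
        rwa [hK, mem_bot] at this
      haveI : Finite τ.range := Finite.of_surjective τ.rangeRestrict τ.rangeRestrict_surjective
      have e1 : T.relIndex C = Nat.card τ.range := by rw [relIndex, ← hker, index_ker]
      haveI : Finite (τ.range →* ℂˣ) := Nat.finite_of_card_ne_zero (by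
        rw [CommGroup.card_monoidHom_of_hasEnoughRootsOfUnity]; exact Nat.card_pos.ne')
      have h2 : Nat.card Φ.range ≤ Nat.card (τ.range →* ℂˣ) :=
        Nat.card_le_card_of_injective _ Subtype.val_injective
      rw [CommGroup.card_monoidHom_of_hasEnoughRootsOfUnity] at h2
      rw [e1, ← hrelA, relIndex]
      refine le_trans (Nat.le_of_dvd Nat.card_pos ?_) h2
      rw [← index_ker]
      exact index_dvd_of_le hΦ
    have hsup : C ⊔ T = ⊤ := by
      have h1 : T.relIndex C ≤ T.relIndex (C ⊔ T) := relIndex_le_of_le_right le_sup_left (by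
        rw [relIndex]; exact index_ne_zero_of_finite)
      have h2 := relIndex_mul_index (H := T) (K := C ⊔ T) le_sup_right
      have h3 : (C ⊔ T).index ≠ 0 := index_ne_zero_of_finite
      rw [← index_eq_one]
      nlinarith [Nat.pos_of_ne_zero h3]
    haveI hsolC : Group.IsSolvable Cb := by
      haveI : Group.IsSolvable (Tb.subgroupOf Cb) :=
        Group.isSolvable_of_isSolvable_injective
          (f := (Cb.subtype.comp (Tb.subgroupOf Cb).subtype).codRestrict Tb fun x => x.2)
          fun a b hab => Subtype.ext (Subtype.ext (congrArg (fun z : Tb => (z : H ⧸ Z)) hab))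
      refine Group.isSolvable_of_ker_le_range (Tb.subgroupOf Cb).subtype
        (Abelianization.of (G := Cb)) ?_
      rw [Abelianization.ker_of, range_subtype, _root_.commutator_def, commutator_le]
      intro a _ b _
      obtain ⟨a', ha'⟩ := hπs a
      obtain ⟨b', hb'⟩ := hπs b
      have haC : a' ∈ C := by show π a' ∈ Cb; rw [ha']; exact a.2
      have hbC : b' ∈ C := by show π b' ∈ Cb; rw [hb']; exact b.2
      have hc : ⁅(⟨a', haC⟩ : C), (⟨b', hbC⟩ : C)⁆ ∈ τ.ker := by
        rw [MonoidHom.mem_ker, map_commutatorElement, commutatorElement_eq_one_iff_mul_comm]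
        exact MonoidHom.ext fun x => mul_comm _ _
      rw [hker, mem_subgroupOf] at hc
      rw [mem_subgroupOf]
      refine ⟨_, hc, ?_⟩
      simp [commutatorElement_def, ha', hb']
    haveI : Cb.Normal := inferInstanceAs (centralizer (A : Set (H ⧸ Z))).Normal
    refine (Group.isSolvable_iff_subgroup_quotient Cb).2 ⟨hsolC, ?_⟩
    refine Group.isSolvable_of_surjective (f := (QuotientGroup.mk' Cb).comp Tb.subtype) fun x => ?_
    obtain ⟨y, rfl⟩ := QuotientGroup.mk'_surjective Cb x
    obtain ⟨z, rfl⟩ := hπs y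
    obtain ⟨c, hc, t, ht, rfl⟩ := mem_sup_of_normal_left.1 (hsup.symm ▸ mem_top z : z ∈ C ⊔ T)
    refine ⟨⟨π t, mem_map_of_mem π ht⟩, ?_⟩
    show QuotientGroup.mk' Cb (π t) = QuotientGroup.mk' Cb (π (c * t))
    rw [map_mul π c t, map_mul (QuotientGroup.mk' Cb),
      show QuotientGroup.mk' Cb (π c) = 1 from (QuotientGroup.eq_one_iff _).2 hc, one_mul]
  · -- the centralizer of `A` fixes the character
    exfalso
    have hCT : C ≤ T := fun u hu => by
      have h1 : τ ⟨u, hu⟩ = 1 := MonoidHom.ext fun x => by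
        obtain ⟨m, ⟨hm, hm'⟩, hmx⟩ : π x ∈ K.map π := hK.symm ▸ x.2
        rw [← lin_congr (τ ⟨u, hu⟩) (htwZ u) ⟨m, hm⟩ x hmx, hm' ⟨u, hu⟩]
        rfl
      have : (⟨u, hu⟩ : C) ∈ τ.ker := h1
      rw [hker] at this
      exact this
    set cj : H ⧸ Z →* MulAut A := MulAut.conjNormal
    have hkerc : cj.ker = Cb := by
      ext g
      rw [MonoidHom.mem_ker, hCb, mem_centralizer_iff]
      constructor
      · intro hg a ha
        have := congrArg Subtype.val (DFunLike.congr_fun hg ⟨a, ha⟩)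
        rw [MulAut.conjNormal_apply] at this
        simp only [MulAut.one_apply] at this
        rw [mul_inv_eq_iff_eq_mul] at this
        exact this.symm
      · intro hg
        refine MulEquiv.ext fun a => Subtype.ext ?_
        rw [MulAut.conjNormal_apply, MulAut.one_apply, ← hg _ a.2, mul_inv_cancel_right]
    have hdvd : p ^ k ∣ Nat.card cj.range := by
      rw [← index_ker, hkerc, ← index_comap_of_surjective _ hπs, ← hcardA, ← hiA]
      exact index_dvd_of_le hCT
    have hkle : k ≤ 2 := by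
      by_contra hk3
      have h6 : p ^ 6 ∣ Z.index := by
        rw [← hchain, hiA, hrelA, hcardA]
        refine (Nat.pow_dvd_pow p (show 6 ≤ k + k by omega)).trans ?_
        rw [pow_add]
        exact Dvd.intro (M.relIndex T) (by ring)
      obtain ⟨R, hR⟩ := (IsPGroup.of_card hcardA : IsPGroup p A).exists_le_sylow
      have hRC : (R : Subgroup (H ⧸ Z)) ≤ Cb := fun x hx => mem_centralizer_iff.2 fun a ha =>
        congrArg Subtype.val ((hsmall p hp h6 R).1.1 ⟨a, hR ha⟩ ⟨x, hx⟩)
      refine R.not_dvd_index ((dvd_pow_self p (by omega)).trans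
        (hdvd.trans ?_))
      rw [← index_ker, hkerc]
      exact index_dvd_of_le hRC
    rcases (show k = 1 ∨ k = 2 by omega) with rfl | rfl
    · haveI : IsCyclic A := isCyclic_of_prime_card (p := p) (by simpa using hcardA)
      have h1 : p ∣ Nat.card (MulAut A) := by
        refine (by simpa using hdvd : p ∣ Nat.card cj.range).trans (card_subgroup_dvd_card _)
      rw [IsCyclic.card_mulAut, hcardA, pow_one, Nat.totient_prime hp] at h1
      exact absurd (Nat.le_of_dvd (by have := hp.two_le; omega) h1) (by have := hp.two_le; omega)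
    · exact not_sq_dvd_aut hp hcardA (fun a => Subtype.ext (by simpa using hexp a a.2)) _ hdvd

end Cfsg.Agent.Grp.CentralType
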