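import Cfsg.Agent.Lib.Grp.CentralType.Twist
import Cfsg.Agent.Lib.Grp.CentralType.Cases
import Cfsg.Agent.Lib.Transfer.HallWielandt
import Cfsg.Agent.Lib.Invol.Dihedral
import Cfsg.Agent.Lib.Invol.GW.Dihedral.ThreeDoneFinal
import Cfsg.Agent.Lib.Invol.CentSix.SolvSmall
import Cfsg.Agent.Lib.OddUse.RankTwoSylow
import Cfsg.Agent.Lib.Recog.SU3Sylow
import Cfsg.Agent.S2911

/-!
A simple subgroup containing a nonabelian Sylow 2-subgroup of order sixteen of the quotient.
-/

namespace Cfsg.Agent.Grp.CentralType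

open Cfsg Cfsg.Agent.Char Cfsg.Agent.Char.RamCompl Subgroup

set_option linter.unusedSectionVars false
set_option linter.style.haveILetI false

universe u

section Pure

variable {S : Type u} [Group S] [Finite S] [IsSimpleGroup S]

theorem index_two_false (hna : ¬ IsMulCommutative S) {K : Subgroup S} (hK : K.index = 2) : False := by
  haveI := normal_of_index_eq_two hK
  rcases (inferInstance : K.Normal).eq_bot_or_eq_top with h | h
  · rw [h, index_bot] at hK
    haveI : Fact (Nat.Prime 2) := ⟨Nat.prime_two⟩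
    haveI := isCyclic_of_prime_card hK
    exact hna ⟨⟨fun a b => (IsCyclic.commGroup (α := S)).mul_comm a b⟩⟩
  · rw [h, index_top] at hK
    omega

/-- No involution outside an elementary abelian subgroup of index two contradicts simplicity. -/
theorem false_of_no_involution (hna : ¬ IsMulCommutative S) (T : Sylow 2 S)
    {E : Subgroup (T : Subgroup S)} (hE : E.index = 2) (hexp : ∀ a ∈ E, a * a = 1)
    (h4 : ∀ a : (T : Subgroup S), a ∉ E → orderOf a = 4) : False := by
  classical
  haveI : Fact (Nat.Prime 2) := ⟨Nat.prime_two⟩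
  haveI : Fintype (S ⧸ (T : Subgroup S)) := Fintype.ofFinite _
  let ε : Multiplicative (ZMod 2) := Multiplicative.ofAdd 1
  have hεε : ε * ε = 1 := Multiplicative.toAdd.injective (show (1 : ZMod 2) + 1 = 0 from rfl)
  let φ : (T : Subgroup S) →* Multiplicative (ZMod 2) :=
    { toFun := fun a => if a ∈ E then 1 else ε
      map_one' := if_pos E.one_mem
      map_mul' := fun a b => by
        have h := mul_mem_iff_of_index_two hE (a := a) (b := b)
        by_cases ha : a ∈ E <;> by_cases hb : b ∈ E <;> simp [ha, hb, h, hεε] }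
  have hφ1 : ∀ a, a ∈ E → φ a = 1 := fun a ha => if_pos ha
  have hφε : ∀ a, a ∉ E → φ a = ε := fun a ha => if_neg ha
  obtain ⟨y, hy⟩ : ∃ y : (T : Subgroup S), y ∉ E := by
    by_contra h
    push Not at h
    rw [(eq_top_iff' E).2 h, index_top] at hE
    omega
  have hy4 : orderOf (y : S) = 4 := (orderOf_coe y).trans (h4 y hy)
  have hsq : ∀ a : (T : Subgroup S), a * a = 1 → a ∈ E := fun a ha => by
    by_contra h
    have := h4 a h
    have h2 : orderOf a ∣ 2 := orderOf_dvd_of_pow_eq_one (by rw [sq, ha])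
    rw [this] at h2
    norm_num at h2
  have h1 := Transfer.HallWielandt.transfer_eq_prod_fixed φ (y : S) fun x l hl hld hmem => by
    refine hφ1 _ (hsq _ (Subtype.ext ?_))
    rw [hy4] at hld
    have hl4 : 4 ∣ l + l := by
      have := Nat.le_of_dvd (by norm_num) hld
      interval_cases l <;> first | (norm_num at hld; done) | norm_num
    show x⁻¹ * (y : S) ^ l * x * (x⁻¹ * (y : S) ^ l * x) = 1
    rw [show x⁻¹ * (y : S) ^ l * x * (x⁻¹ * (y : S) ^ l * x) = x⁻¹ * (y : S) ^ (l + l) * x by
      rw [pow_add]; group, orderOf_dvd_iff_pow_eq_one.1 (hy4.symm ▸ hl4 : orderOf (y : S) ∣ l + l)]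
    group
  rw [Transfer.CyclicSyl.hom_eq_one (fun a b => mul_comm a b) (perfect_of_simple hna)] at h1
  have h2 : ∀ q : S ⧸ (T : Subgroup S), Transfer.HallWielandt.fixVal φ (y : S) q =
      if (y : S) • q = q then ε else 1 := by
    intro q
    split_ifs with hq
    · have hmem := (Transfer.HallWielandt.smul_eq_iff q).1 hq
      rw [Transfer.HallWielandt.fixVal, dif_pos hmem]
      refine hφε _ fun hE' => ?_
      have h3 := orderOf_dvd_of_pow_eq_one (x := (⟨_, hmem⟩ : (T : Subgroup S))) (n := 2)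
        (by rw [sq, hexp _ hE'])
      rw [← orderOf_coe] at h3
      change orderOf (q.out⁻¹ * (y : S) * q.out) ∣ 2 at h3
      rw [show q.out⁻¹ * (y : S) * q.out = MulAut.conj q.out⁻¹ (y : S) by simp,
        MulEquiv.orderOf_eq, hy4] at h3
      norm_num at h3
    · exact Transfer.HallWielandt.fixVal_of_ne φ hq
  simp only [h2, Finset.prod_ite, Finset.prod_const_one, mul_one, Finset.prod_const] at h1
  have hmod : Nat.card (S ⧸ (T : Subgroup S)) ≡
      (Finset.univ.filter fun q : S ⧸ (T : Subgroup S) => (y : S) • q = q).card [MOD 2] := by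
    have hP : IsPGroup 2 (zpowers (y : S)) := IsPGroup.of_card (n := 2) (by
      rw [Nat.card_zpowers, hy4]; rfl)
    refine (hP.card_modEq_card_fixedPoints (S ⧸ (T : Subgroup S))).trans
      (Eq.subst ?_ (Nat.ModEq.refl _))
    rw [← Nat.card_eq_finsetCard]
    refine Nat.card_congr (Equiv.subtypeEquivRight fun q => ?_)
    rw [MulAction.mem_fixedPoints, Finset.mem_filter]
    refine ⟨fun h => ⟨Finset.mem_univ _, h ⟨_, mem_zpowers _⟩⟩, fun ⟨_, h⟩ g => ?_⟩
    obtain ⟨g, hg⟩ := g
    obtain ⟨i, rfl⟩ := mem_zpowers_iff.1 hg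
    exact MulAction.mem_stabilizer_iff.1 (zpow_mem (MulAction.mem_stabilizer_iff.2 h) i)
  have hodd : Odd (Finset.univ.filter fun q : S ⧸ (T : Subgroup S) => (y : S) • q = q).card := by
    rw [← Nat.not_even_iff_odd, even_iff_two_dvd]
    exact fun h => T.not_dvd_index ((Nat.ModEq.dvd_iff hmod dvd_rfl).2 h)
  obtain ⟨k, hk⟩ := hodd
  rw [hk, pow_succ, pow_mul, sq, hεε, one_pow, one_mul] at h1
  exact zero_ne_one (α := ZMod 2) (congrArg Multiplicative.toAdd h1)

/-- An involution outside an elementary abelian subgroup of index two gives `2 × D8`. -/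
theorem false_of_involution (hna : ¬ IsMulCommutative S) (T : Sylow 2 S)
    (hcard : Nat.card (T : Subgroup S) = 16) (hTna : ¬ IsMulCommutative (T : Subgroup S))
    {E : Subgroup (T : Subgroup S)} (hE : E.index = 2) (hexp : ∀ a ∈ E, a * a = 1)
    {y : (T : Subgroup S)} (hyE : y ∉ E) (hy : y * y = 1) : False := by
  classical
  haveI hEn : E.Normal := normal_of_index_eq_two hE
  have hcE : Nat.card E = 8 := by
    have := E.card_mul_index
    rw [hE, hcard] at this
    omega
  have hyi : y⁻¹ = y := inv_eq_of_mul_eq_one_right hy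
  have hcomm : ∀ a ∈ E, ∀ b ∈ E, a * b = b * a := fun a ha b hb => by
    have h1 : (a * b)⁻¹ = a * b := inv_eq_of_mul_eq_one_right (hexp _ (E.mul_mem ha hb))
    rw [mul_inv_rev, inv_eq_of_mul_eq_one_right (hexp a ha),
      inv_eq_of_mul_eq_one_right (hexp b hb)] at h1
    exact h1.symm
  have hconjE : ∀ a ∈ E, y * a * y ∈ E := fun a ha => by
    have := hEn.conj_mem a ha y
    rwa [hyi] at this
  obtain ⟨e, he, hye⟩ : ∃ e ∈ E, y * e * y ≠ e := by
    by_contra h
    push Not at h
    have hyc : ∀ a ∈ E, y * a = a * y := fun a ha => by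
      calc y * a = y * a * (y * y) := by rw [hy, mul_one]
        _ = a * y := by rw [← mul_assoc, h a ha]
    have hdec : ∀ a : ↥(T : Subgroup S), ∃ b ∈ E, a = b ∨ a = b * y := fun a => by
      by_cases ha : a ∈ E
      · exact ⟨a, ha, Or.inl rfl⟩
      · exact ⟨a * y, (mul_mem_iff_of_index_two hE).2 (by simp [ha, hyE]),
          Or.inr (by rw [mul_assoc, hy, mul_one])⟩
    refine hTna ⟨⟨fun a b => ?_⟩⟩
    have key : ∀ z : ↥(T : Subgroup S), (∀ a ∈ E, z * a = a * z) → z * y = y * z → ∀ b : ↥(T : Subgroup S), z * b = b * z := by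
      intro z hzE hzy b
      obtain ⟨c, hc, rfl | rfl⟩ := hdec b
      · exact hzE _ hc
      · rw [← mul_assoc, hzE c hc, mul_assoc, hzy, mul_assoc]
    obtain ⟨c, hc, rfl | rfl⟩ := hdec a
    · exact key _ (hcomm _ hc) (hyc _ hc).symm b
    · refine key _ (fun a ha => ?_) ?_ b
      · rw [mul_assoc, hyc a ha, ← mul_assoc, hcomm c hc a ha, mul_assoc]
      · rw [← mul_assoc, hyc c hc]
  set e' := y * e * y with he'
  have he'E : e' ∈ E := hconjE e he
  set r2 := e' * e with hr2
  have hr2E : r2 ∈ E := E.mul_mem he'E he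
  let N : E →* E :=
    { toFun := fun a => ⟨a * (y * a * y), E.mul_mem a.2 (hconjE a a.2)⟩
      map_one' := Subtype.ext (by simp [hy])
      map_mul' := fun a b => Subtype.ext (by
        show (a : ↥(T : Subgroup S)) * b * (y * (a * b) * y) = a * (y * a * y) * (b * (y * b * y))
        rw [show y * ((a : ↥(T : Subgroup S)) * b) * y = y * a * (y * y) * b * y by rw [hy]; group,
          show y * (a : ↥(T : Subgroup S)) * (y * y) * b * y = y * a * y * (y * b * y) by group,
          show (a : ↥(T : Subgroup S)) * b * (y * a * y * (y * b * y)) = a * (b * (y * a * y)) * (y * b * y) by group,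
          hcomm _ b.2 _ (hconjE a a.2)]
        group) }
  have hker : ∀ a : E, a ∈ N.ker ↔ y * (a : ↥(T : Subgroup S)) * y = a := by
    intro a
    rw [MonoidHom.mem_ker, Subtype.ext_iff]
    show (a : ↥(T : Subgroup S)) * (y * a * y) = 1 ↔ _
    exact ⟨fun h => mul_left_cancel (h.trans (hexp _ a.2).symm), fun h => by rw [h]; exact hexp _ a.2⟩
  have hrk : N.range ≤ N.ker := by
    rintro _ ⟨a, rfl⟩
    rw [hker]
    show y * ((a : ↥(T : Subgroup S)) * (y * a * y)) * y = a * (y * a * y)
    rw [hcomm a a.2 _ (hconjE a a.2)]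
    conv_lhs => rw [show y * (y * (a : ↥(T : Subgroup S)) * y * a) * y = y * y * a * (y * a * y) by group, hy, one_mul]
    exact hcomm a a.2 _ (hconjE a a.2)
  have hk3 : 2 < Nat.card N.ker := by
    have h1 := N.ker.card_mul_index
    rw [index_ker, hcE] at h1
    have h2 := card_le_of_le hrk
    by_contra h3
    push Not at h3
    nlinarith
  obtain ⟨c, hcE', hcy, hc1, hc2⟩ : ∃ c ∈ E, y * c * y = c ∧ c ≠ 1 ∧ c ≠ r2 := by
    by_contra h
    push Not at h
    have : Nat.card N.ker ≤ Nat.card ({1, ⟨r2, hr2E⟩} : Finset E) :=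
      Nat.card_le_card_of_injective (fun a => ⟨a, by
        rw [Finset.mem_insert, Finset.mem_singleton]
        by_cases h1 : ((a : E) : ↥(T : Subgroup S)) = 1
        · exact Or.inl (Subtype.ext h1)
        · exact Or.inr (Subtype.ext (h _ (a : E).2 ((hker _).1 a.2) h1))⟩)
        fun a b hab => Subtype.ext (congrArg (fun z : ({1, ⟨r2, hr2E⟩} : Finset E) => (z : E)) hab)
    rw [Nat.card_eq_finsetCard] at this
    exact absurd (this.trans Finset.card_le_two) (by omega)
  have hee' : e * e' = e' * e := hcomm _ he _ he'E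
  obtain ⟨r, hr⟩ : ∃ r, r = y * e := ⟨_, rfl⟩
  have hrr : r * r = r2 := by rw [hr2, he', hr]; group
  have hr4 : r ^ 4 = 1 := by
    rw [show (4 : ℕ) = 2 + 2 from rfl, pow_add, sq, hrr, hexp _ hr2E]
  have hinv : y * r * y⁻¹ = r⁻¹ := by
    rw [hr, mul_inv_rev, hyi, inv_eq_of_mul_eq_one_right (hexp _ he), ← mul_assoc, hy, one_mul]
  let fD := Invol.dihedralHom (n := 4) r y hr4 hy hinv
  let fc : Multiplicative (ZMod 2) →* ↥(T : Subgroup S) :=
    AddMonoidHom.toMultiplicativeLeft (Invol.zmodPow c (by rw [sq, hexp _ hcE']))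
  have hcy' : Commute c y := by
    calc c * y = y * c * y * y := by rw [hcy]
      _ = y * c := by rw [mul_assoc (y * c), hy, mul_one]
  have hcr : Commute c r := hr ▸ hcy'.mul_right (hcomm _ hcE' _ he)
  have hcommute : ∀ m n, Commute (fc m) (fD n) := by
    intro m n
    obtain ⟨i, hi⟩ : ∃ i : ℤ, fc m = c ^ i := by
      obtain ⟨i, hi⟩ := ZMod.intCast_surjective m.toAdd
      refine ⟨i, ?_⟩
      show Additive.toMul (Invol.zmodPow c _ m.toAdd) = _
      rw [← hi, Invol.zmodPow_intCast]
    rw [hi]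
    rcases n with j | j <;> obtain ⟨j, rfl⟩ := ZMod.intCast_surjective j
    · rw [Invol.dihedralHom_r]; exact hcr.zpow_zpow i j
    · rw [Invol.dihedralHom_sr]; exact ((hcy'.zpow_left i).mul_right (hcr.zpow_zpow i j))
  let f := fc.noncommCoprod fD hcommute
  have hc_mem : c ∈ f.range := ⟨(Multiplicative.ofAdd 1, 1), by
    simp only [f, MonoidHom.noncommCoprod_apply, map_one, mul_one]
    show Additive.toMul (Invol.zmodPow c _ ((1 : ℤ) : ZMod 2)) = c
    rw [Invol.zmodPow_intCast, zpow_one]⟩
  have hy_mem : y ∈ f.range := ⟨(1, .sr ((0 : ℤ) : ZMod 4)), by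
    simp only [f, MonoidHom.noncommCoprod_apply, map_one, one_mul, fD, Invol.dihedralHom_sr,
      zpow_zero, mul_one]⟩
  have hr_mem : r ∈ f.range := ⟨(1, .r ((1 : ℤ) : ZMod 4)), by
    simp only [f, MonoidHom.noncommCoprod_apply, map_one, one_mul, fD, Invol.dihedralHom_r,
      zpow_one]⟩
  have he_mem : e ∈ f.range := by
    have := f.range.mul_mem (f.range.inv_mem hy_mem) hr_mem
    rwa [hr, inv_mul_cancel_left] at this
  have he'_mem : e' ∈ f.range := f.range.mul_mem (f.range.mul_mem hy_mem he_mem) hy_mem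
  have hEle : E ≤ f.range := by
    set K := f.range.subgroupOf E with hK
    have hd : Nat.card K ∣ 2 ^ 3 := by simpa [hcE] using card_subgroup_dvd_card K
    obtain ⟨j, hj, hj'⟩ := (Nat.dvd_prime_pow Nat.prime_two).1 hd
    by_contra hle
    have hj2 : j ≤ 2 := by
      by_contra h3
      refine hle (subgroupOf_eq_top.1 (eq_top_of_card_eq _ ?_))
      rw [hj', show j = 3 by omega, hcE]
      rfl
    let g : Fin 5 → K := ![⟨1, one_mem K⟩, ⟨⟨e, he⟩, he_mem⟩, ⟨⟨e', he'E⟩, he'_mem⟩,
      ⟨⟨r2, hr2E⟩, f.range.mul_mem he'_mem he_mem⟩, ⟨⟨c, hcE'⟩, hc_mem⟩]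
    have hfix1 : y * 1 * y = 1 := by rw [mul_one, hy]
    have he1 : e ≠ 1 := fun h => hye (by rw [he', h, hfix1])
    have he'fix : y * e' * y = e := by
      rw [he', show y * (y * e * y) * y = y * y * e * (y * y) by group, hy, one_mul, mul_one]
    have he'1 : e' ≠ 1 := fun h => he1 (he'fix.symm.trans (by rw [h, hfix1]))
    have hee : e' ≠ e := hye
    have hr21 : r2 ≠ 1 := fun h => hee (mul_right_cancel (h.trans (hexp _ he).symm))
    have hr2e : r2 ≠ e := fun h => he'1 (mul_right_cancel (h.trans (one_mul e).symm))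
    have hr2e' : r2 ≠ e' := fun h => he1 (mul_left_cancel (h.trans (mul_one e').symm))
    have hce : c ≠ e := fun h => hye (by rw [he', ← h, hcy])
    have hce' : c ≠ e' := fun h => hee (by
      rw [← h, ← he'fix, ← h, hcy])
    have hg : Function.Injective g := by
      intro a b hab
      have hab' := congrArg (fun z : K => ((z : E) : ↥(T : Subgroup S))) hab
      fin_cases a <;> fin_cases b <;> first | rfl | (exfalso; simp [g, he1, he1.symm, he'1, he'1.symm, hr21, hr21.symm, hc1, hc1.symm, hee, hee.symm, hr2e, hr2e.symm, hce, hce.symm, hr2e', hr2e'.symm, hce', hce'.symm, hc2, hc2.symm] at hab')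
    have := Nat.card_le_card_of_injective g hg
    rw [Nat.card_fin, hj'] at this
    have := Nat.pow_le_pow_right two_pos hj2
    omega
  have hsurj : Function.Surjective f := fun a => by
    by_cases ha : a ∈ E
    · exact hEle ha
    · have h1 := hEle ((mul_mem_iff_of_index_two hE (a := a) (b := y)).2 (by simp [ha, hyE]))
      have h2 := f.range.mul_mem h1 hy_mem
      rwa [mul_assoc, hy, mul_one] at h2
  have hbij : Function.Bijective f := (Nat.bijective_iff_surjective_and_card _).2 ⟨hsurj, by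
    rw [hcard, Nat.card_prod, Nat.card_congr Multiplicative.toAdd, Nat.card_zmod,
      DihedralGroup.nat_card]⟩
  obtain ⟨K, hK⟩ := S2911.result T ⟨(MulEquiv.ofBijective f hbij).symm⟩
  exact index_two_false hna hK

end Pure

variable {H : Type u} [Group H] [Fintype H] {Z : Subgroup H} [Z.Normal] [Fintype Z]
  {χ : H → ℂ} {θ : Z → ℂ} {e : ℕ} {S : Subgroup (H ⧸ Z)}

theorem false_of_sixteen (d : Data Z χ θ e) [IsSimpleGroup S] (hna : ¬ IsMulCommutative S)
    (hN : NormalisedByCents S) (P : Sylow 2 (H ⧸ Z)) (T : Sylow 2 S)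
    (hPT : (P : Subgroup (H ⧸ Z)) = (T : Subgroup S).map S.subtype)
    (hcard : Nat.card (T : Subgroup S) = 16) (hTna : ¬ IsMulCommutative (T : Subgroup S)) :
    False := by
  classical
  haveI : Fact (Nat.Prime 2) := ⟨Nat.prime_two⟩
  have hperf := perfect_of_simple hna
  by_cases hex : ∃ E : Subgroup (T : Subgroup S), IsMulCommutative E ∧ (∀ a ∈ E, a * a = 1) ∧
      8 ≤ Nat.card E
  · obtain ⟨E, hEc, hexp, h8⟩ := hex
    have hd : Nat.card E ∣ 2 ^ 4 := by
      have := card_subgroup_dvd_card E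
      rw [hcard] at this
      exact this
    obtain ⟨j, hj, hj'⟩ := (Nat.dvd_prime_pow Nat.prime_two).1 hd
    have hidx : E.index = 2 := by
      have := E.card_mul_index
      rw [hcard, hj'] at this
      rw [hj'] at h8
      interval_cases j <;> try omega
      exfalso
      have : E = ⊤ := eq_top_of_card_eq _ (by rw [hj', hcard]; rfl)
      exact hTna ⟨⟨fun a b => congrArg Subtype.val
        (hEc.is_comm.comm ⟨a, this ▸ mem_top a⟩ ⟨b, this ▸ mem_top b⟩)⟩⟩
    by_cases hinv : ∃ y, y ∉ E ∧ y * y = 1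
    · obtain ⟨y, hyE, hy⟩ := hinv
      exact false_of_involution hna T hcard hTna hidx hexp hyE hy
    · push Not at hinv
      refine false_of_no_involution hna T hidx hexp fun a ha => ?_
      have h2 : a * a ∈ E := (mul_mem_iff_of_index_two hidx).2 Iff.rfl
      refine orderOf_eq_prime_pow (p := 2) (n := 1) ?_ ?_
      · simpa [sq] using hinv a ha
      · rw [show (2 : ℕ) ^ (1 + 1) = 2 * 2 by norm_num, pow_mul, sq (a ^ 2), sq]
        exact hexp _ h2
  push Not at hex
  have hrk : PRankLE 2 2 S := by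
    intro A hA hA2
    obtain ⟨Q, hQ⟩ := (Grp.elemAb_isPGroup (p := 2) ⟨hA, hA2⟩).exists_le_sylow
    let em : (Q : Subgroup S) ≃* (T : Subgroup S) := Sylow.equiv Q T
    have h := hex ((A.subgroupOf (Q : Subgroup S)).map em.toMonoidHom) ⟨⟨by
      rintro ⟨_, a, ha, rfl⟩ ⟨_, b, hb, rfl⟩
      refine Subtype.ext ?_
      show em a * em b = em b * em a
      rw [← map_mul, ← map_mul]
      exact congrArg em (Subtype.ext (congrArg Subtype.val (hA.is_comm.comm ⟨_, ha⟩ ⟨_, hb⟩) :))⟩⟩
      (by
        rintro _ ⟨a, ha, rfl⟩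
        show em a * em a = 1
        rw [← map_mul, show a * a = 1 from Subtype.ext (by simpa [sq] using hA2 _ ha), map_one])
    rw [card_map_of_injective em.injective,
      Nat.card_congr (subgroupOfEquivOfLe hQ).toEquiv] at h
    have hd : Nat.card A ∣ 2 ^ 4 := by
      rw [show (2 : ℕ) ^ 4 = Nat.card (Q : Subgroup S) by
        rw [Nat.card_congr em.toEquiv, hcard]; rfl]
      exact card_dvd_of_le hQ
    obtain ⟨j, hj, hj'⟩ := (Nat.dvd_prime_pow Nat.prime_two).1 hd
    rw [hj'] at h ⊢
    interval_cases j <;> first | omega | (norm_num at h)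
  letI : Fintype (GaloisField 2 4) := Fintype.ofFinite _
  have hF : Fintype.card (GaloisField 2 4) = 16 := by
    rw [← Nat.card_eq_fintype_card, GaloisField.card 2 4 (by norm_num)]
    norm_num
  obtain ⟨P'⟩ : Nonempty (Sylow 2 (Cfsg.PSU 3 (GaloisField 2 4) 4)) := inferInstance
  have heven : Even (Nat.card S) := even_iff_two_dvd.2
    ((show 2 ∣ 16 by norm_num).trans (hcard ▸ card_subgroup_dvd_card _))
  rcases OddUse.simple_rank_two_sylow hna heven hrk T hF P' with ⟨n, hn, hD⟩ | h | h | ⟨⟨eP⟩⟩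
  · haveI : Group.IsPerfect S := ⟨hperf⟩
    obtain ⟨z, hz⟩ := exists_prime_orderOf_dvd_card' 2 (even_iff_two_dvd.1 heven)
    have hO : Cfsg.oddCore S = ⊥ := Invol.CentSix.Cfg.oddCore_eq_bot hz
    have strip : ∀ {Q : Type} [Group Q], Nonempty (S ⧸ Cfsg.oddCore S ≃* Q) →
        Nonempty (S ≃* Q) := fun {Q} _ ⟨f⟩ =>
      ⟨((QuotientGroup.quotientMulEquivOfEq hO).trans QuotientGroup.quotientBot).symm.trans f⟩
    rcases Invol.GW.Dihedral.gwStatement_holds T n hn hD with ⟨F, _, _, -, hq, h⟩ | h
    · exact false_of_psl d hperf hN (Nat.succ_le_of_lt hq) (strip h).some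
    · exact false_of_alt_seven d hperf hN (strip h).some
  · obtain ⟨n, hn, hcn, x, y, hx, hy, hxy⟩ := h
    obtain rfl : n = 3 := by
      rw [hcard, show (16 : ℕ) = 2 ^ 4 by norm_num] at hcn
      have := Nat.pow_right_injective le_rfl hcn
      omega
    norm_num at hx hxy
    have hyi : y⁻¹ = y := inv_eq_of_mul_eq_one_right (by
      rw [← sq, orderOf_dvd_iff_pow_eq_one.1 (dvd_of_eq hy)])
    have hx8 : x ^ 8 = 1 := orderOf_dvd_iff_pow_eq_one.1 (dvd_of_eq hx)
    set t := x ^ 4 with ht
    have hto : orderOf t = 2 := by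
      rw [ht, orderOf_pow, hx]
      norm_num
    have hz2 : (x * y) ^ 2 = t := by
      rw [sq, show x * y * (x * y) = x * (y * x * y) by group,
        show y * x * y = x ^ 3 from by rw [← hxy, hyi], ← pow_succ']
    have htx : t ∈ zpowers x := pow_mem (mem_zpowers x) 4
    have htz : t ∈ zpowers (x * y) := hz2 ▸ pow_mem (mem_zpowers _) 2
    let ι : (T : Subgroup S) →* H ⧸ Z := S.subtype.comp (T : Subgroup S).subtype
    have hι : Function.Injective ι := S.subtype_injective.comp (T : Subgroup S).subtype_injective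
    have hcyc : ∀ a : (T : Subgroup S), t ∈ zpowers a → ι a ∈ fixSub θ (ι t) := fun a ha =>
      mem_fixSub_of_cyclic d (zpowers (ι a)) inferInstance (by
        rw [← MonoidHom.map_zpowers]; exact mem_map_of_mem ι ha) (mem_zpowers _)
    have hgen : ∀ a : (T : Subgroup S), a ∈ closure ({x, x * y} : Set (T : Subgroup S)) := by
      set K := closure ({x, x * y} : Set (T : Subgroup S))
      have hxK : x ∈ K := subset_closure (Set.mem_insert _ _)
      have hyK : y ∈ K := by
        simpa using K.mul_mem (K.inv_mem hxK) (subset_closure (Set.mem_insert_of_mem x rfl))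
      have h8 : 8 ∣ Nat.card K := by
        have := orderOf_dvd_natCard (⟨x, hxK⟩ : K)
        rwa [← orderOf_coe, show orderOf (((⟨x, hxK⟩ : K)) : (T : Subgroup S)) = 8 from hx] at this
      intro a
      obtain ⟨c, hc⟩ := h8
      have hd : Nat.card K ∣ 16 := hcard ▸ card_subgroup_dvd_card K
      rw [hc] at hd
      have hc2 : c ≤ 2 := by have := Nat.le_of_dvd (by norm_num) hd; omega
      have hne : zpowers x ≠ K := fun hK => by
        have hyx : Commute y x := by
          obtain ⟨i, hi⟩ := mem_zpowers_iff.1 (hK.symm ▸ hyK : y ∈ zpowers x)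
          rw [← hi]
          exact (Commute.refl x).zpow_left i
        rw [hyx.eq, mul_inv_cancel_right] at hxy
        have h2 : x ^ 2 = 1 := mul_left_cancel (a := x) (by rw [mul_one, ← pow_succ']; exact hxy.symm)
        have := orderOf_dvd_of_pow_eq_one h2
        rw [hx] at this
        norm_num at this
      have hc1 : c ≠ 1 := fun h1 => hne (eq_of_le_of_card_ge (zpowers_le.2 hxK)
        (by rw [Nat.card_zpowers, hx, hc, h1]))
      have hc0 : c ≠ 0 := fun h0 => Nat.card_pos.ne' (hc.trans (by rw [h0, mul_zero]))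
      have : K = ⊤ := eq_top_of_card_eq _ (by rw [hc, hcard, show c = 2 by omega])
      rw [this]
      trivial
    refine false_of_sylow_fix d (t := ι t) (by rw [orderOf_injective ι hι, hto])
      (R := (P : Subgroup (H ⧸ Z))) ?_ fun h2 => P.not_dvd_index (h2.trans (relIndex_dvd_index_of_le ?_))
    · rw [hPT]
      rintro _ ⟨a, ha, rfl⟩
      have : (⟨a, ha⟩ : (T : Subgroup S)) ∈ (fixSub θ (ι t)).comap ι := by
        refine (closure_le _).2 ?_ (hgen ⟨a, ha⟩)
        rintro b (rfl | rfl)
        · exact hcyc _ htx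
        · exact hcyc _ htz
      exact this
    · rw [hPT]
      rintro _ ⟨a, ha, rfl⟩
      refine mem_centralizer_singleton_iff.2 ?_
      have : (⟨a, ha⟩ : (T : Subgroup S)) ∈ (centralizer ({ι t} : Set (H ⧸ Z))).comap ι := by
        refine (closure_le _).2 ?_ (hgen ⟨a, ha⟩)
        rintro b (rfl | rfl) <;>
          refine mem_centralizer_singleton_iff.2 (Commute.map ?_ ι).eq
        · exact (Commute.refl _).pow_right 4
        · exact hz2 ▸ (Commute.refl _).pow_right 2
      exact mem_centralizer_singleton_iff.1 this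
  · obtain ⟨n, hn, hcn, -⟩ := h
    rw [hcard, show (16 : ℕ) = 2 ^ 4 by norm_num] at hcn
    have := Nat.pow_right_injective le_rfl hcn
    omega
  · haveI : Fact (Fintype.card (GaloisField 2 4) = 4 ^ 2) := ⟨by rw [hF]; norm_num⟩
    haveI : CharP (GaloisField 2 4) 2 := Recog.SU3Two.charP_two (m := 4) (by rw [hF]; norm_num)
    obtain ⟨e'⟩ := Recog.SU3Two.sylow_psu (n := 2) (q := 4) rfl (by norm_num) P'
    rw [Nat.card_congr (eP.trans e'.symm).toEquiv, Recog.SU3Two.UT.card] at hcard
    norm_num at hcard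

end Cfsg.Agent.Grp.CentralType
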