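import Cfsg.Agent.Lib.Grp.CentralType.Radical
import Cfsg.Agent.Lib.Grp.CentralType.Sixteen
import Cfsg.Agent.Lib.Grp.CentralType.JankoRee
import Cfsg.Agent.Lib.Invol.GW.Consumers.CentralFour

/-!
Fully ramified quotients with small nonabelian Sylow subgroups are solvable.
-/

namespace Cfsg.Agent.Grp.CentralType

open Cfsg Cfsg.Agent.Char Cfsg.Agent.Char.RamCompl Subgroup

set_option linter.unusedSectionVars false
set_option linter.style.haveILetI false

universe u

variable {H : Type u} [Group H] [Fintype H] {Z : Subgroup H} [Z.Normal] [Fintype Z]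
  {χ : H → ℂ} {θ : Z → ℂ} {e : ℕ}

theorem false_of_component (d : Data Z χ θ e) (hsmall : Small Z) (S : Subgroup (H ⧸ Z))
    [IsSimpleGroup S] (hna : ¬ IsMulCommutative S) (hN : NormalisedByCents S) : False := by
  classical
  haveI : Fact (Nat.Prime 2) := ⟨Nat.prime_two⟩
  have hperf := perfect_of_simple hna
  obtain ⟨T⟩ := Sylow.nonempty (p := 2) (G := S)
  obtain ⟨P, hTP⟩ := (T.isPGroup'.map S.subtype).exists_le_sylow
  -- the order of `P` is an even power of two
  obtain ⟨a, ha⟩ : ∃ a, Nat.card (P : Subgroup (H ⧸ Z)) = 2 ^ (2 * a) := by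
    refine ⟨e.factorization 2, ?_⟩
    rw [Sylow.card_eq_multiplicity, ← Z.index_eq_card, ← d.he, Nat.factorization_pow]
    simp [mul_comm]
  have hdvd : 2 ^ (2 * a) ∣ Z.index := by
    rw [← ha, Z.index_eq_card]
    exact card_subgroup_dvd_card _
  have hP : IsMulCommutative (P : Subgroup (H ⧸ Z)) ∨ a ≤ 2 := by
    by_cases h3 : 3 ≤ a
    · exact Or.inl (hsmall 2 Nat.prime_two ((pow_dvd_pow 2 (by omega : 6 ≤ 2 * a)).trans hdvd) P)
    · exact Or.inr (by omega)
  have hcT : Nat.card ((T : Subgroup S).map S.subtype) = Nat.card (T : Subgroup S) :=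
    card_map_of_injective S.subtype_injective
  by_cases hTc : IsMulCommutative (T : Subgroup S)
  · have h2 : 2 ∣ Nat.card S := even_iff_two_dvd.1 (Invol.GW.CentralFour.even_of_simple hna)
    rcases Invol.AbelTwo.trichotomy hna h2 T hTc with ⟨F, _, _, n, hn, hF, ⟨f⟩⟩ |
      ⟨F, _, _, -, hq, -, ⟨f⟩⟩ | ⟨hT8, hexp, hJR⟩
    · exact false_of_psl d hperf hN (by
        rw [hF]; exact le_trans (by norm_num) (Nat.pow_le_pow_right two_pos hn)) f
    · exact false_of_psl d hperf hN (by omega) f
    · refine false_of_jr d hna hN P T hTP (hP.imp_right fun h => ?_) hT8 hexp hJR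
      have h1 := card_le_of_le hTP
      rw [hcT, hT8, ha] at h1
      rw [ha]
      interval_cases a <;> first | (norm_num at h1; done) | norm_num
  · have hPna : ¬ IsMulCommutative (P : Subgroup (H ⧸ Z)) := fun h => hTc ⟨⟨fun x y =>
      Subtype.ext (Subtype.ext (congrArg Subtype.val (h.is_comm.comm
        ⟨_, hTP (mem_map_of_mem _ x.2)⟩ ⟨_, hTP (mem_map_of_mem _ y.2)⟩) :))⟩⟩
    have ha2 := hP.resolve_left hPna
    have hdT := card_dvd_of_le hTP
    rw [hcT, ha] at hdT
    obtain ⟨j, hj, hjT⟩ := (Nat.dvd_prime_pow Nat.prime_two).1 hdT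
    have hj3 : 3 ≤ j := by
      by_contra h
      refine hTc ?_
      rcases (show j = 0 ∨ j = 1 ∨ j = 2 by omega) with rfl | rfl | rfl
      · haveI := (Nat.card_eq_one_iff_unique.1 (hjT.trans (pow_zero 2))).1
        exact ⟨⟨fun _ _ => Subsingleton.elim _ _⟩⟩
      · haveI := isCyclic_of_prime_card (hjT.trans (pow_one 2))
        exact ⟨⟨(IsCyclic.commGroup (α := (T : Subgroup S))).mul_comm⟩⟩
      · letI := IsPGroup.commGroupOfCardEqPrimeSq (p := 2) hjT
        exact ⟨⟨mul_comm⟩⟩
    rcases (show j = 3 ∨ j = 4 by omega) with rfl | rfl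
    · rcases Invol.AbelTwo.eight_cases hna T hjT with ⟨F, _, _, hq, ⟨f⟩⟩ | ⟨F, _, _, hq, ⟨f⟩⟩ | ⟨f⟩ |
        ⟨hexp, -⟩
      · exact false_of_psl d hperf hN (by omega) f
      · exact false_of_psl d hperf hN (by omega) f
      · exact false_of_alt_seven d hperf hN f.some
      · refine hTc ⟨⟨fun x y => Subtype.ext ?_⟩⟩
        have h1 : ((x : S) * y)⁻¹ = x * y :=
          inv_eq_of_mul_eq_one_right (hexp _ (mul_mem x.2 y.2))
        rw [mul_inv_rev, inv_eq_of_mul_eq_one_right (hexp _ x.2),
          inv_eq_of_mul_eq_one_right (hexp _ y.2)] at h1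
        exact h1.symm
    · refine false_of_sixteen d hna hN P T (eq_of_le_of_card_ge hTP ?_).symm hjT hTc
      rw [hcT, hjT, ha]
      exact Nat.pow_le_pow_right two_pos (by omega)

/-- Without abelian normal subgroups a nonsolvable finite group has a simple component. -/
theorem exists_simple_component {G : Type u} [Group G] [Finite G] (hns : ¬ Group.IsSolvable G)
    (hrad : ∀ A : Subgroup G, A.Normal → IsMulCommutative A → A = ⊥) :
    ∃ S : Subgroup G, IsSimpleGroup S ∧ ¬ IsMulCommutative S ∧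
      ∀ y x : G, x ∈ S → x ≠ 1 → Commute y x → ∀ s ∈ S, y * s * y⁻¹ ∈ S := by
  have hF : Cfsg.fittingSubgroup G = ⊥ := by
    by_contra hne
    haveI := Grp.fittingSubgroup_isNilpotent (G := G)
    haveI := Grp.fittingSubgroup_isNormal (G := G)
    haveI : Nontrivial (Cfsg.fittingSubgroup G) := (nontrivial_iff_ne_bot _).2 hne
    set C := (center (Cfsg.fittingSubgroup G)).map (Cfsg.fittingSubgroup G).subtype with hC
    have hCb : C = ⊥ := hrad C inferInstance ⟨⟨fun a b => by
      obtain ⟨a', ha', hae⟩ := a.2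
      obtain ⟨b', -, hbe⟩ := b.2
      refine Subtype.ext ?_
      rw [coe_mul, coe_mul, ← hae, ← hbe, ← map_mul, ← map_mul, mem_center_iff.1 ha' b']⟩⟩
    rw [hC, map_eq_bot_iff_of_injective _ (Cfsg.fittingSubgroup G).subtype_injective] at hCb
    exact (Group.IsNilpotent.center_ne_bot (G := Cfsg.fittingSubgroup G)) hCb
  haveI htop : ¬ Group.IsSolvable (⊤ : Subgroup G) := fun h => hns
    (Group.isSolvable_of_surjective (f := (⊤ : Subgroup G).subtype) fun x => ⟨⟨x, mem_top x⟩, rfl⟩)
  obtain ⟨S, hS, -⟩ := Grp.exists_component_le (M := (⊤ : Subgroup G)) Subgroup.IsSubnormal.top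
    (by
      rw [hF]
      exact fun x _ => mem_centralizer_iff.2 fun y hy => by rw [mem_bot.1 hy, one_mul, mul_one])
    htop
  have hcen : center S = ⊥ := by
    have hsn : ((center S).map S.subtype).IsSubnormal :=
      (inferInstance : (center S).Normal).isSubnormal.trans' hS.1
    have hsol : Group.IsSolvable ((center S).map S.subtype) := Group.isSolvable_of_comm fun a b => by
      obtain ⟨a', ha', hae⟩ := a.2
      obtain ⟨b', -, hbe⟩ := b.2
      refine Subtype.ext ?_
      rw [coe_mul, coe_mul, ← hae, ← hbe, ← map_mul, ← map_mul, mem_center_iff.1 ha' b']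
    have := Grp.solvable_subnormal_le_fitting _ _ rfl hsn hsol (by
      rw [hF]; exact fun x _ => mem_centralizer_iff.2 fun y hy => by rw [mem_bot.1 hy, one_mul, mul_one])
    rwa [hF, le_bot_iff, map_eq_bot_iff_of_injective _ S.subtype_injective] at this
  haveI hsimple : IsSimpleGroup S := by
    haveI := hS.2.2
    let f := (QuotientGroup.quotientMulEquivOfEq hcen).trans QuotientGroup.quotientBot
    haveI : Nontrivial S := f.symm.toEquiv.nontrivial
    exact IsSimpleGroup.isSimpleGroup_of_surjective f.toMonoidHom f.surjective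
  have hna : ¬ IsMulCommutative S := fun h => by
    have : center S = ⊤ := eq_top_iff.2 fun x _ => mem_center_iff.2 fun y => h.is_comm.comm y x
    exact top_ne_bot (this.symm.trans hcen)
  refine ⟨S, hsimple, hna, fun y x hx hx1 hc s hs => ?_⟩
  have hconj := Grp.IsComponent.conj hS y
  by_contra hsy
  have hne : S ≠ S.map (MulAut.conj y).toMonoidHom := fun h => hsy (by
    rw [h]; exact ⟨s, hs, rfl⟩)
  have h1 := Grp.IsComponent.commute hS hconj hne
  refine hx1 ?_
  have hxc : (⟨x, hx⟩ : S) ∈ center S := mem_center_iff.2 fun z => Subtype.ext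
    (mem_centralizer_iff.1 (h1 z.2) x ⟨x, hx, by
      show y * x * y⁻¹ = x
      rw [hc.eq, mul_inv_cancel_right]⟩).symm
  rw [hcen, mem_bot] at hxc
  exact congrArg Subtype.val hxc

/-- The main induction. -/
theorem isSolvable_quotient : ∀ (n : ℕ) (H : Type u) [Group H] [Fintype H] (Z : Subgroup H)
    [Z.Normal] [Fintype Z] (χ : H → ℂ) (θ : Z → ℂ) (e : ℕ), Data Z χ θ e → Z.index = n →
    Small Z → Group.IsSolvable (H ⧸ Z) := by
  intro n
  induction n using Nat.strong_induction_on with
  | _ n ih =>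
    intro H _ _ Z _ _ χ θ e d hn hsmall
    subst hn
    by_cases hab : ∃ A : Subgroup (H ⧸ Z), A.Normal ∧ IsMulCommutative A ∧ A ≠ ⊥
    · obtain ⟨A, ⟨hAn, hA, hA1⟩, hmin⟩ := exists_minimal_of_wellFoundedLT
        (fun A : Subgroup (H ⧸ Z) => A.Normal ∧ IsMulCommutative A ∧ A ≠ ⊥) hab
      haveI := hAn
      refine radical_step d hsmall hA hA1 (fun B hB hle => or_iff_not_imp_left.2 fun hB1 =>
        le_antisymm hle (hmin ⟨hB, ⟨⟨fun a b => Subtype.ext (congrArg Subtype.val
          (hA.is_comm.comm ⟨_, hle a.2⟩ ⟨_, hle b.2⟩) :)⟩⟩, hB1⟩ hle)) ?_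
      intro T _ _ Z' _ _ χ' θ' e' d' hlt hsmall'
      exact ih _ hlt T Z' χ' θ' e' d' rfl hsmall'
    · by_contra hns
      push Not at hab
      obtain ⟨S, hS, hna, hN⟩ := exists_simple_component hns hab
      exact false_of_component d hsmall S hna hN

end Cfsg.Agent.Grp.CentralType
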