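import Cfsg.Agent.Lib.Grp.CentralType.Good

/-!
The subgroup of the centralizer of `x` in a fully ramified quotient that fixes every extension of
the character below to the preimage of `⟨x⟩`, and its reciprocity.
-/

namespace Cfsg.Agent.Grp.CentralType

open Cfsg Cfsg.Agent.Char Cfsg.Agent.Char.RamCompl Subgroup

set_option linter.unusedSectionVars false
set_option linter.style.haveILetI false

universe u

variable {H : Type u} [Group H] [Fintype H] {Z : Subgroup H} [Z.Normal] [Fintype Z]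
  {χ : H → ℂ} {θ : Z → ℂ} {e : ℕ}

/-- The preimage of the cyclic subgroup generated by `x`. -/
abbrev cycPre (Z : Subgroup H) [Z.Normal] (x : H ⧸ Z) : Subgroup H :=
  (zpowers x).comap (QuotientGroup.mk' Z)

theorem le_comap (C : Subgroup (H ⧸ Z)) : Z ≤ C.comap (QuotientGroup.mk' Z) := fun z hz => by
  show QuotientGroup.mk' Z z ∈ C
  rw [show QuotientGroup.mk' Z z = 1 from (QuotientGroup.eq_one_iff z).2 hz]
  exact one_mem C

theorem le_cycPre (x : H ⧸ Z) : Z ≤ cycPre Z x := le_comap _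

theorem conj_mk {x : H ⧸ Z} {u : H} (hu : Commute (u : H ⧸ Z) x) {m : H} (hm : m ∈ cycPre Z x) :
    ((u * m * u⁻¹ : H) : H ⧸ Z) = (m : H ⧸ Z) := by
  obtain ⟨i, hi⟩ := mem_zpowers_iff.1 hm
  simp only [QuotientGroup.mk'_apply] at hi
  simp only [QuotientGroup.mk_mul, QuotientGroup.mk_inv]
  rw [← hi, (hu.zpow_right i).eq, mul_inv_cancel_right]

theorem conj_mem_cycPre {x : H ⧸ Z} {u : H} (hu : Commute (u : H ⧸ Z) x) {m : H}
    (hm : m ∈ cycPre Z x) : u * m * u⁻¹ ∈ cycPre Z x := by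
  show ((u * m * u⁻¹ : H) : H ⧸ Z) ∈ zpowers x
  rw [conj_mk hu hm]
  exact hm

theorem mem_cycPre_iff {x : H ⧸ Z} {u : H} (hu : Commute (u : H ⧸ Z) x) (m : H) :
    m ∈ cycPre Z x ↔ u * m * u⁻¹ ∈ cycPre Z x :=
  ⟨conj_mem_cycPre hu, fun h => by
    have h1 := conj_mem_cycPre (u := u⁻¹) (by simpa using hu.inv_left) h
    rwa [show u⁻¹ * (u * m * u⁻¹) * u⁻¹⁻¹ = m by group] at h1⟩

/-- The elements commuting with `x` that fix every extension to the preimage of `⟨x⟩`. -/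
def fixSub (θ : Z → ℂ) (x : H ⧸ Z) : Subgroup (H ⧸ Z) where
  carrier := {y | Commute y x ∧ ∀ F : H → ℂ, IsExt θ (cycPre Z x) F → ∀ u : H, (u : H ⧸ Z) = y →
    ∀ m ∈ cycPre Z x, F (u * m * u⁻¹) = F m}
  one_mem' := ⟨Commute.one_left x, fun F hF u hu m hm => by
    have hu' : u ∈ cycPre Z x := le_cycPre x ((QuotientGroup.eq_one_iff u).1 hu)
    simpa using IsIrr.classFun hF.1 ⟨m, hm⟩ ⟨u, hu'⟩⟩
  mul_mem' := fun {a b} ⟨ha, ha'⟩ ⟨hb, hb'⟩ => ⟨ha.mul_left hb, fun F hF w hw m hm => by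
    obtain ⟨v, rfl⟩ := QuotientGroup.mk_surjective b
    have hu : ((w * v⁻¹ : H) : H ⧸ Z) = a := by
      rw [QuotientGroup.mk_mul, QuotientGroup.mk_inv, hw, mul_inv_cancel_right]
    rw [show w * m * w⁻¹ = (w * v⁻¹) * (v * m * v⁻¹) * (w * v⁻¹)⁻¹ by group,
      ha' F hF _ hu _ (conj_mem_cycPre hb hm), hb' F hF v rfl m hm]⟩
  inv_mem' := fun {a} ⟨ha, ha'⟩ => ⟨ha.inv_left, fun F hF w hw m hm => by
    have hm' : w * m * w⁻¹ ∈ cycPre Z x := conj_mem_cycPre (by rw [hw]; exact ha.inv_left) hm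
    have h := ha' F hF w⁻¹ (by rw [QuotientGroup.mk_inv, hw, inv_inv]) _ hm'
    rw [show w⁻¹ * (w * m * w⁻¹) * w⁻¹⁻¹ = m by group] at h
    exact h.symm⟩

theorem fixSub_le (θ : Z → ℂ) (x : H ⧸ Z) :
    fixSub θ x ≤ centralizer ({x} : Set (H ⧸ Z)) := fun _ hy =>
  mem_centralizer_singleton_iff.2 hy.1.eq

/-- One extension and one lift suffice. -/
theorem mem_fixSub_of_one (d : Data Z χ θ e) {x : H ⧸ Z} {u : H} (hu : Commute (u : H ⧸ Z) x)
    {F : H → ℂ} (hF : IsExt θ (cycPre Z x) F)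
    (h : ∀ m ∈ cycPre Z x, F (u * m * u⁻¹) = F m) : (u : H ⧸ Z) ∈ fixSub θ x := by
  refine ⟨hu, fun F' hF' w hw m hm => ?_⟩
  have hz : u⁻¹ * w ∈ Z := QuotientGroup.eq.1 hw.symm
  have hm' : (u⁻¹ * w) * m * (u⁻¹ * w)⁻¹ ∈ cycPre Z x :=
    mul_mem (mul_mem (le_cycPre x hz) hm) (inv_mem (le_cycPre x hz))
  obtain ⟨l, hlZ, hl⟩ := hF.exists_linear d (le_cycPre x) hF'
  have hu' := conj_mem_cycPre hu hm'
  have h1 : F' (u * ((u⁻¹ * w) * m * (u⁻¹ * w)⁻¹) * u⁻¹) = F' ((u⁻¹ * w) * m * (u⁻¹ * w)⁻¹) := by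
    rw [hl ⟨_, hu'⟩, hl ⟨_, hm'⟩, lin_congr l hlZ ⟨_, hu'⟩ ⟨_, hm'⟩ (conj_mk hu hm')]
    exact congrArg _ (h _ hm')
  have h2 := IsIrr.classFun hF'.1 ⟨m, hm⟩ ⟨u⁻¹ * w, le_cycPre x hz⟩
  simp only [coe_mul, coe_inv] at h2
  rw [h2, show u * ((u⁻¹ * w) * m * (u⁻¹ * w)⁻¹) * u⁻¹ = w * m * w⁻¹ by group] at h1
  exact h1

/-- Some element commuting with a nontrivial `x` moves an extension. -/
theorem exists_not_fix (d : Data Z χ θ e) {x : H ⧸ Z} (hx : x ≠ 1) :
    ∃ y, Commute y x ∧ y ∉ fixSub θ x := by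
  by_contra hne
  push Not at hne
  obtain ⟨h, rfl⟩ := QuotientGroup.mk_surjective x
  obtain ⟨F, hF⟩ := exists_ext d (zpowers (h : H ⧸ Z)) inferInstance
  change IsExt θ (cycPre Z (h : H ⧸ Z)) F at hF
  refine no_fixed d (le_cycPre _) (h := h) (mem_zpowers _)
    (fun hh => hx ((QuotientGroup.eq_one_iff h).2 hh)) hF fun u hu m hm => ?_
  have hc : Commute (u : H ⧸ Z) h := by
    rw [commute_iff_eq, ← mul_inv_eq_iff_eq_mul, ← mul_inv_eq_one]
    simpa using (QuotientGroup.eq_one_iff _).2 hu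
  exact (hne _ hc).2 F hF u rfl m hm

/-- Elements of a cyclic subgroup containing `x` fix the extensions. -/
theorem mem_fixSub_of_cyclic (d : Data Z χ θ e) {x y : H ⧸ Z} (D : Subgroup (H ⧸ Z))
    (hD : IsCyclic D) (hx : x ∈ D) (hy : y ∈ D) : y ∈ fixSub θ x := by
  obtain ⟨F0, hF0⟩ := exists_ext d D hD
  obtain ⟨u, rfl⟩ := QuotientGroup.mk_surjective y
  have hle : cycPre Z x ≤ D.comap (QuotientGroup.mk' Z) := comap_mono (zpowers_le.2 hx)
  have hF : IsExt θ (cycPre Z x) F0 := isExt_of_char d (le_cycPre x)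
    (IsChar.comp (Subgroup.inclusion hle) (IsIrr.isCharacter hF0.1)) hF0.2
  refine mem_fixSub_of_one d ?_ hF fun m hm => ?_
  · exact congrArg Subtype.val ((IsCyclic.commGroup (α := D)).mul_comm ⟨_, hy⟩ ⟨x, hx⟩)
  · simpa using IsIrr.classFun hF0.1 ⟨m, hle hm⟩ ⟨u, hy⟩

theorem self_mem_fixSub (d : Data Z χ θ e) (x : H ⧸ Z) : x ∈ fixSub θ x :=
  mem_fixSub_of_cyclic d (zpowers x) inferInstance (mem_zpowers x) (mem_zpowers x)

open scoped Classical in
/-- The action on the extensions as a homomorphism into linear characters. -/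
theorem exists_twistHom (d : Data Z χ θ e) (x : H ⧸ Z) :
    ∃ Λ : centralizer ({x} : Set (H ⧸ Z)) →* (cycPre Z x →* ℂˣ),
      (∀ y, y ∈ Λ.ker ↔ (y : H ⧸ Z) ∈ fixSub θ x) ∧
      ∀ (n : ℕ), x ^ n = 1 → ∀ y, Λ y ^ n = 1 := by
  obtain ⟨F, hF⟩ := exists_ext d (zpowers x) inferInstance
  change IsExt θ (cycPre Z x) F at hF
  have hcm : ∀ y : centralizer ({x} : Set (H ⧸ Z)), ∀ u : H, (u : H ⧸ Z) = y →
      Commute (u : H ⧸ Z) x := fun y u hu => by
    rw [hu]; exact mem_centralizer_singleton_iff.1 y.2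
  choose u hu using fun y : centralizer ({x} : Set (H ⧸ Z)) =>
    QuotientGroup.mk_surjective (y : H ⧸ Z)
  choose lam hlamZ hlam using fun y : centralizer ({x} : Set (H ⧸ Z)) =>
    hF.exists_linear d (le_cycPre x) (hF.conj d (mem_cycPre_iff (hcm y _ (hu y))))
  have key : ∀ (y : centralizer ({x} : Set (H ⧸ Z))) (w : H), (w : H ⧸ Z) = (y : H ⧸ Z) → ∀ m : cycPre Z x,
      F (w * m * w⁻¹) = (lam y m : ℂ) * F m := by
    intro y w hw m
    have hz : (u y)⁻¹ * w ∈ cycPre Z x := le_cycPre x (QuotientGroup.eq.1 ((hu y).trans hw.symm))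
    rw [show w * m * w⁻¹ = u y *
      ((⟨_, hz⟩ * m * ⟨_, hz⟩⁻¹ : cycPre Z x) : H) * (u y)⁻¹ by simp [mul_assoc], hlam y]
    congr 1
    · refine congrArg _ (lin_congr _ (hlamZ y) _ _ ?_)
      simp only [coe_mul, coe_inv, QuotientGroup.mk_mul, QuotientGroup.mk_inv]
      rw [hu y, hw]
      group
    · exact IsIrr.classFun hF.1 m ⟨_, hz⟩
  have huniq : ∀ y (l : cycPre Z x →* ℂˣ), (∀ m : cycPre Z x, (m : H) ∈ Z → l m = 1) →
      (∀ m : cycPre Z x, F (u y * m * (u y)⁻¹) = (l m : ℂ) * F m) → lam y = l := fun y l hl h =>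
    hF.linear_unique d (le_cycPre x) (hlamZ y) hl fun m => (key y _ (hu y) m).symm.trans (h m)
  have hmul : ∀ y y', lam (y * y') = lam y * lam y' := by
    intro y y'
    refine hF.linear_unique d (le_cycPre x) (hlamZ _) (fun m hm => by
      rw [MonoidHom.mul_apply, hlamZ y m hm, hlamZ y' m hm, one_mul]) fun m => ?_
    rw [← key (y * y') (u y * u y')
      (by rw [QuotientGroup.mk_mul, hu, hu]; rfl) m]
    have hm' : u y' * m * (u y')⁻¹ ∈ cycPre Z x := conj_mem_cycPre (hcm y' _ (hu y')) m.2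
    rw [show u y * u y' * m * (u y * u y')⁻¹ = u y * ((⟨_, hm'⟩ : cycPre Z x) : H) * (u y)⁻¹ by
      simp [mul_assoc], key y _ (hu y), key y' _ (hu y'),
      lin_congr (lam y) (hlamZ y) ⟨_, hm'⟩ m (conj_mk (hcm y' _ (hu y')) m.2),
      MonoidHom.mul_apply, Units.val_mul, mul_assoc]
  refine ⟨MonoidHom.mk' lam hmul, fun y => ?_, fun n hn y => ?_⟩
  · rw [MonoidHom.mem_ker, MonoidHom.mk'_apply]
    constructor
    · intro h
      rw [← hu y]
      refine mem_fixSub_of_one d (hcm y _ (hu y)) hF fun m hm => ?_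
      rw [key y _ (hu y) ⟨m, hm⟩, h, MonoidHom.one_apply, Units.val_one, one_mul]
    · intro h
      refine huniq y 1 (fun _ _ => rfl) fun m => ?_
      rw [MonoidHom.one_apply, Units.val_one, one_mul]
      exact h.2 F hF _ (hu y) m m.2
  · refine MonoidHom.ext fun m => ?_
    rw [MonoidHom.mk'_apply, MonoidHom.pow_apply, ← map_pow, MonoidHom.one_apply]
    refine hlamZ y _ ?_
    obtain ⟨i, hi⟩ := mem_zpowers_iff.1 m.2
    simp only [QuotientGroup.mk'_apply] at hi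
    rw [← QuotientGroup.eq_one_iff, coe_pow, QuotientGroup.mk_pow, ← hi, ← zpow_natCast,
      zpow_comm, zpow_natCast, hn, one_zpow]

theorem commutator_mem_fixSub (d : Data Z χ θ e) {x y z : H ⧸ Z} (hy : Commute y x)
    (hz : Commute z x) : y * z * y⁻¹ * z⁻¹ ∈ fixSub θ x := by
  obtain ⟨Λ, hΛ, -⟩ := exists_twistHom d x
  have h := (hΛ (⟨y, mem_centralizer_singleton_iff.2 hy.eq⟩ *
    ⟨z, mem_centralizer_singleton_iff.2 hz.eq⟩ *
    (⟨y, mem_centralizer_singleton_iff.2 hy.eq⟩)⁻¹ *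
    (⟨z, mem_centralizer_singleton_iff.2 hz.eq⟩)⁻¹)).1 (by
      rw [MonoidHom.mem_ker]
      simp only [map_mul, map_inv]
      refine MonoidHom.ext fun m => ?_
      simp only [MonoidHom.mul_apply, MonoidHom.inv_apply, MonoidHom.one_apply]
      rw [mul_inv_cancel_comm, mul_inv_cancel])
  simpa using h

theorem pow_mem_fixSub (d : Data Z χ θ e) {x y : H ⧸ Z} (hy : Commute y x) {n : ℕ}
    (hn : x ^ n = 1) : y ^ n ∈ fixSub θ x := by
  obtain ⟨Λ, hΛ, hpow⟩ := exists_twistHom d x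
  have h := (hΛ (⟨y, mem_centralizer_singleton_iff.2 hy.eq⟩ ^ n)).1 (by
    rw [MonoidHom.mem_ker, map_pow, hpow n hn])
  simpa using h

/-- Elements of order prime to that of `x` fix the extensions. -/
theorem mem_fixSub_of_coprime (d : Data Z χ θ e) {x y : H ⧸ Z} (hy : Commute y x) {n : ℕ}
    (hn : x ^ n = 1) (hco : n.Coprime (orderOf y)) : y ∈ fixSub θ x := by
  obtain ⟨w, hw⟩ := exists_pow_eq_self_of_coprime (x := y) hco
  rw [← hw]
  exact pow_mem (pow_mem_fixSub d hy hn) w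

open scoped Classical in
/-- Constituents over the cyclic subgroup are extensions. -/
theorem isExt_of_constituent (d : Data Z χ θ e) (x : H ⧸ Z) [Fintype (cycPre Z x)]
    {ψ : cycPre Z x → ℂ} (hψi : IsIrrCharacter (cycPre Z x) ψ)
    (hψ : classInner (fun m : cycPre Z x => χ m) ψ ≠ 0) :
    IsExt θ (cycPre Z x) (fun g => if hg : g ∈ cycPre Z x then ψ ⟨g, hg⟩ else 0) := by
  have hZM : Z ≤ (cycPre Z x) := le_cycPre x
  letI : Fintype (Z.subgroupOf (cycPre Z x)) := Fintype.ofFinite _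
  haveI : (Z.subgroupOf (cycPre Z x)).Normal := Subgroup.Normal.subgroupOf inferInstance _
  have hcyc : IsCyclic ((cycPre Z x) ⧸ Z.subgroupOf (cycPre Z x)) := by
    let f : (cycPre Z x) →* zpowers x :=
      ((QuotientGroup.mk' Z).comp (cycPre Z x).subtype).codRestrict (zpowers x) fun m => m.2
    have hker : f.ker = Z.subgroupOf (cycPre Z x) := by
      ext m
      rw [MonoidHom.mem_ker, Subgroup.mem_subgroupOf, ← QuotientGroup.eq_one_iff (N := Z)]
      exact ⟨fun h => congrArg Subtype.val h, fun h => Subtype.ext h⟩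
    let ι : (cycPre Z x) ⧸ Z.subgroupOf (cycPre Z x) →* zpowers x := QuotientGroup.lift (Z.subgroupOf (cycPre Z x)) f hker.ge
    refine isCyclic_of_injective ι ((injective_iff_map_eq_one ι).2 fun q hq => ?_)
    induction q using QuotientGroup.induction_on with
    | _ m => exact (QuotientGroup.eq_one_iff m).2 (hker.le (show f m = 1 from hq))
  set θM : Z.subgroupOf (cycPre Z x) → ℂ := fun n => θ ⟨((n : (cycPre Z x)) : H), n.2⟩ with hθM
  have hθMi : IsIrrCharacter (Z.subgroupOf (cycPre Z x)) θM :=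
    IsIrr.comp_mulEquiv (Subgroup.subgroupOfEquivOfLe hZM) d.hθ
  have hov := d.over_of_constituent hZM hψi hψ
  have hov' : classInner (fun n : Z.subgroupOf (cycPre Z x) => ψ n) θM ≠ 0 := by
    have := Corr.classInner_subgroupOf Z hZM (fun z : Z => ψ ⟨(z : H), hZM z.2⟩) θ
    exact this.symm ▸ hov
  have hone := OverCyclic.mult_one hcyc hθMi hψi hov'
  have hinv : inertia (Z.subgroupOf (cycPre Z x)) θM = ⊤ := eq_top_iff.2 fun t _ => by
    rw [mem_inertia]
    funext n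
    exact congrFun (d.conj_eq (t : H)) ⟨((n : (cycPre Z x)) : H), n.2⟩
  have h1 := clifford_one (Z.subgroupOf (cycPre Z x)) hψi hθMi hov'
  rw [hone, one_mul, hinv, Subgroup.index_top, Nat.cast_one, one_mul] at h1
  have hres := eq_of_constituent_degree (IsChar.res (IsIrr.isCharacter hψi) (Z.subgroupOf (cycPre Z x))) hθMi
    hov' h1
  refine ⟨?_, fun z => ?_⟩
  · simp only [SetLike.coe_mem, dite_true]
    exact hψi
  · simp only [hZM z.2, dite_true]
    exact congrFun hres ⟨⟨(z : H), hZM z.2⟩, z.2⟩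

open scoped Classical in
/-- Reciprocity. -/
theorem fixSub_symm (d : Data Z χ θ e) {x y : H ⧸ Z} (hy : y ∈ fixSub θ x) :
    x ∈ fixSub θ y := by
  set S := zpowers x ⊔ zpowers y with hS
  set M := cycPre Z x with hMdef
  set N := S.comap (QuotientGroup.mk' Z) with hNdef
  have hxy : Commute y x := hy.1
  have hSfix : S ≤ fixSub θ x :=
    sup_le (zpowers_le.2 (self_mem_fixSub d x)) (zpowers_le.2 hy)
  have hMN : M ≤ N := comap_mono le_sup_left
  have hyN : cycPre Z y ≤ N := comap_mono le_sup_right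
  letI : Fintype N := Fintype.ofFinite _
  letI : Fintype M := Fintype.ofFinite _
  letI : Fintype (M.subgroupOf N) := Fintype.ofFinite _
  haveI hMn : (M.subgroupOf N).Normal := ⟨fun m hm t => by
    rw [mem_subgroupOf] at hm ⊢
    exact conj_mem_cycPre (u := (t : H)) (hSfix t.2).1 hm⟩
  obtain ⟨u, hu⟩ := QuotientGroup.mk_surjective y
  have huN : u ∈ N := hyN (show ((u : H) : H ⧸ Z) ∈ zpowers y by rw [hu]; exact mem_zpowers _)
  have hcyc : IsCyclic (N ⧸ M.subgroupOf N) := by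
    refine ⟨⟨((⟨u, huN⟩ : N) : N ⧸ M.subgroupOf N), fun q => ?_⟩⟩
    induction q using QuotientGroup.induction_on with
    | _ t =>
      have hyn : zpowers y ≤ normalizer (zpowers x : Set (H ⧸ Z)) := by
        rw [zpowers_le]
        refine centralizer_le_normalizer _ ?_
        rw [mem_centralizer_iff]
        intro a ha
        obtain ⟨i, rfl⟩ := mem_zpowers_iff.1 ha
        exact (hxy.zpow_right i).eq.symm
      have ht : ((t : H) : H ⧸ Z) ∈ ((zpowers x ⊔ zpowers y : Subgroup (H ⧸ Z)) : Set (H ⧸ Z)) := t.2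
      rw [coe_mul_of_right_le_normalizer_left (zpowers x) (zpowers y) hyn, Set.mem_mul] at ht
      obtain ⟨a, ha, b, hb, hab⟩ := ht
      obtain ⟨j, rfl⟩ := mem_zpowers_iff.1 hb
      refine mem_zpowers_iff.2 ⟨j, ?_⟩
      rw [← QuotientGroup.mk_zpow, QuotientGroup.eq, mem_subgroupOf]
      show (((⟨u, huN⟩ ^ j)⁻¹ * t : N) : H ⧸ Z) ∈ zpowers x
      simp only [coe_mul, coe_inv, coe_zpow, QuotientGroup.mk_mul, QuotientGroup.mk_inv,
        QuotientGroup.mk_zpow, hu]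
      rw [show ((t : H) : H ⧸ Z) = a * y ^ j from hab.symm]
      obtain ⟨i, rfl⟩ := mem_zpowers_iff.1 ha
      rw [← mul_assoc, ((hxy.zpow_zpow j i).inv_left).eq, mul_assoc, inv_mul_cancel, mul_one]
      exact zpow_mem (mem_zpowers x) i
  obtain ⟨ψ, hψ⟩ := IsChar.exists_constituent' (IsChar.res (IsIrr.isCharacter d.hχ) N)
    (show χ ((1 : N) : H) ≠ 0 from IsIrr.one_ne_zero d.hχ)
  obtain ⟨φ, hφ⟩ := IsChar.exists_constituent'
    (IsChar.comp (Subgroup.inclusion hMN) (IsIrr.isCharacter ψ.2))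
    (show (ψ : N → ℂ) (Subgroup.inclusion hMN 1) ≠ 0 by rw [map_one]; exact IsIrr.one_ne_zero ψ.2)
  have hφc : classInner (fun m : M => χ m) (φ : M → ℂ) ≠ 0 :=
    pos_of_constituent (Subgroup.inclusion hMN) (IsChar.res (IsIrr.isCharacter d.hχ) N) ψ.2 hψ
      φ.2 hφ
  have hF := isExt_of_constituent d x φ.2 hφc
  set F : H → ℂ := fun g => if hg : g ∈ M then (φ : M → ℂ) ⟨g, hg⟩ else 0 with hFdef
  set φ' : M.subgroupOf N → ℂ := fun n => F ((n : N) : H) with hφ'
  have hφ'i : IsIrrCharacter (M.subgroupOf N) φ' :=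
    IsIrr.comp_mulEquiv (Subgroup.subgroupOfEquivOfLe hMN) hF.1
  have hinv : inertia (M.subgroupOf N) φ' = ⊤ := eq_top_iff.2 fun t _ => by
    rw [mem_inertia]
    funext n
    rw [conjN_apply]
    exact (hSfix t.2).2 F hF t rfl _ n.2
  have hov : classInner (fun n : M.subgroupOf N => (ψ : N → ℂ) n) φ' ≠ 0 := by
    have h := Corr.classInner_subgroupOf (G := N) (M.subgroupOf N) (T := ⊤) le_top
      (fun n : M.subgroupOf N => (ψ : N → ℂ) n) φ'
    have e := classInner_comp_surjective (Subgroup.subgroupOfEquivOfLe hMN).toMonoidHom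
      (Subgroup.subgroupOfEquivOfLe hMN).surjective
      (fun m : M => (ψ : N → ℂ) (Subgroup.inclusion hMN m)) (φ : M → ℂ)
    have e1 : φ' = fun n => (φ : M → ℂ) (Subgroup.subgroupOfEquivOfLe hMN n) := funext fun n => by
      simp only [hφ', hFdef, dif_pos (show ((n : N) : H) ∈ M from n.2)]
      rfl
    rw [e1]
    exact e.symm ▸ hφ
  have hone := OverCyclic.mult_one hcyc hφ'i ψ.2 hov
  have h1 := clifford_one (M.subgroupOf N) ψ.2 hφ'i hov
  rw [hone, one_mul, hinv, Subgroup.index_top, Nat.cast_one, one_mul] at h1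
  have hres := eq_of_constituent_degree (IsChar.res (IsIrr.isCharacter ψ.2) (M.subgroupOf N))
    hφ'i hov h1
  set G' : H → ℂ := fun g => if hg : g ∈ N then (ψ : N → ℂ) ⟨g, hg⟩ else 0 with hG'
  have hG'M : ∀ g, g ∈ M → G' g = F g := fun g hg => by
    rw [hG']
    dsimp only
    rw [dif_pos (hMN hg)]
    exact congrFun hres ⟨⟨g, hMN hg⟩, hg⟩
  have hG'ext : IsExt θ (cycPre Z y) G' := by
    refine isExt_of_char d (le_cycPre y) ?_ fun z => ?_
    · have := IsChar.comp (Subgroup.inclusion hyN) (IsIrr.isCharacter ψ.2)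
      convert this using 1
      funext m
      rw [hG']
      dsimp only
      rw [dif_pos (hyN m.2)]
      rfl
    · rw [hG'M _ (le_cycPre x z.2)]
      exact hF.2 z
  obtain ⟨v, hv⟩ := QuotientGroup.mk_surjective x
  rw [← hv] at hxy ⊢
  refine mem_fixSub_of_one d hxy.symm hG'ext fun m hm => ?_
  have hvN : v ∈ N := hMN (show ((v : H) : H ⧸ Z) ∈ zpowers x by rw [hv]; exact mem_zpowers _)
  have h := IsIrr.classFun ψ.2 ⟨m, hyN hm⟩ ⟨v, hvN⟩
  have hmem : v * m * v⁻¹ ∈ N := mul_mem (mul_mem hvN (hyN hm)) (inv_mem hvN)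
  simp only [hG', dif_pos (hyN hm), dif_pos hmem]
  exact h

/-- The fixing subgroup of an involution contains a subgroup of the centralizer as soon as it
has odd index there. -/
theorem le_fixSub_of_odd (d : Data Z χ θ e) {t : H ⧸ Z} (ht : t ^ 2 = 1) {D : Subgroup (H ⧸ Z)}
    (hD : D ≤ centralizer ({t} : Set (H ⧸ Z))) (hidx : ¬ 2 ∣ (fixSub θ t).relIndex D) :
    D ≤ fixSub θ t := by
  classical
  rw [← relIndex_eq_one]
  by_contra hne
  obtain ⟨p, hp, hpd⟩ := Nat.exists_prime_and_dvd hne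
  haveI : Fact p.Prime := ⟨hp⟩
  by_cases hp2 : p = 2
  · exact hidx (hp2 ▸ hpd)
  · obtain ⟨P⟩ := Sylow.nonempty (p := p) (G := D)
    refine P.not_dvd_index (hpd.trans (index_dvd_of_le fun w hw => ?_))
    rw [mem_subgroupOf]
    refine mem_fixSub_of_coprime d (mem_centralizer_singleton_iff.1 (hD w.2)) (n := 2) ht ?_
    obtain ⟨k, hk⟩ := IsPGroup.iff_orderOf.1 P.isPGroup' ⟨w, hw⟩
    rw [orderOf_mk] at hk
    rw [orderOf_coe, hk]
    exact Nat.Coprime.pow_right k ((Nat.coprime_primes Nat.prime_two hp).2 (Ne.symm hp2))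

/-- A Sylow 2-subgroup of the centralizer of an involution is not inside the fixing subgroup. -/
theorem false_of_sylow_fix (d : Data Z χ θ e) {t : H ⧸ Z} (ht : orderOf t = 2)
    {R : Subgroup (H ⧸ Z)} (hR : R ≤ fixSub θ t)
    (hidx : ¬ 2 ∣ R.relIndex (centralizer ({t} : Set (H ⧸ Z)))) : False := by
  obtain ⟨y, hy, hyn⟩ := exists_not_fix d (x := t) (by
    intro h
    rw [h, orderOf_one] at ht
    omega)
  refine hyn (le_fixSub_of_odd d (ht ▸ pow_orderOf_eq_one t) le_rfl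
    (fun h => hidx (h.trans (relIndex_dvd_of_le_left _ hR))) (mem_centralizer_singleton_iff.2 hy.eq))

end Cfsg.Agent.Grp.CentralType
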